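import Groth.Agent.H8.EDSMain

/-!
# Induction over quasi-compact open subspaces containing a given one
-/

set_option autoImplicit false
set_option linter.style.haveILetI false

universe u

open CategoryTheory CategoryTheory.Limits AlgebraicGeometry

namespace Groth.Agent.Lib.AlgSpEDS.OpenInduction

open AlgSp (Sp yon RepWith IsAlgSpace Points Space IsEtaleMor IsElemDistSq)
open Groth.Agent.Lib.AlgSpace
open Groth.Agent.H8.EDSInduction (mono_openImm repWith_etale_of_openImm isElemDistSq_of isCompact_range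
  isQuasiCompactSp_of_range schSp)
open Groth.Agent.H8.EDSMain (repWith_of_comp_mono)

variable {S : Scheme.{u}} {X : Space S} {P : ∀ U : Space S, (U ⟶ X) → Prop}

/-- The property holds for every open subspace with the given points. -/
def HoldsAt (P : ∀ U : Space S, (U ⟶ X) → Prop) (O : Set (Points X.obj)) : Prop :=
  ∀ (F : Space S) (j : F ⟶ X), RepWith @IsOpenImmersion j.hom → Set.range (Points.map j.hom) = O → P F j

/-- The step of the induction. -/
def Step (P : ∀ U : Space S, (U ⟶ X) → Prop) {W : Space S} (jW : W ⟶ X) : Prop :=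
  ∀ (W₁ W₂ V : Space S) (j₁ : W₁ ⟶ X) (j₂ : W₂ ⟶ X) (k : W₁ ⟶ W₂) (m : W ⟶ W₁) (f : V ⟶ W₂),
    RepWith @IsOpenImmersion j₁.hom → RepWith @IsOpenImmersion j₂.hom →
    k ≫ j₂ = j₁ → m ≫ j₁ = jW →
    AlgSp.IsQuasiCompactSp W₁.obj → AlgSp.IsQuasiCompactSp W₂.obj →
    (∃ T : Over S, IsAffine T.left ∧ Nonempty ((yon S).obj T ≅ V.obj)) →
    IsElemDistSq k.hom f.hom → P W₁ j₁ → P W₂ j₂

variable {W : Space S} {jW : W ⟶ X}

theorem holdsAt_union (h2 : Step P jW) {W₁ : Space S} (j₁ : W₁ ⟶ X)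
    (hj₁ : RepWith @IsOpenImmersion j₁.hom) (hc : IsCompact (Set.range (Points.map j₁.hom)))
    (m : W ⟶ W₁) (hm : m ≫ j₁ = jW) (hP : P W₁ j₁)
    {V : Over S} [IsAffine V.left] (f : (yon S).obj V ⟶ X.obj) (hf : RepWith @Etale f)
    (hinj : ∀ (T : Over S) (x y : (yon S).obj T ⟶ (yon S).obj V), x ≫ f = y ≫ f →
      (∀ t, Points.ofPt (x ≫ f) t ∉ Set.range (Points.map j₁.hom)) → x = y) :
    HoldsAt P (Set.range (Points.map j₁.hom) ∪ Set.range (Points.map f)) := by
  intro F' j' hj' hr'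
  haveI := mono_openImm hj'
  obtain ⟨j, hjj⟩ := (exists_lift_iff_range_subset hj' j₁.hom).2 (by
    rw [hr']; exact Set.subset_union_left)
  obtain ⟨f', hff⟩ := (exists_lift_iff_range_subset hj' f).2 (by
    rw [hr']; exact Set.subset_union_right)
  haveI : CompactSpace (Points ((yon S).obj V)) := Groth.Agent.Lib.AlgSpMor.QC.compactSpace_yon
  have hF'c : AlgSp.IsQuasiCompactSp F'.obj := isQuasiCompactSp_of_range F'.property hj'
    (hr' ▸ hc.union (isCompact_range f))
  refine h2 W₁ F' (schSp V) j₁ j' (ObjectProperty.homMk j) m (ObjectProperty.homMk f') hj₁ hj'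
    (ObjectProperty.hom_ext _ hjj) hm (isQuasiCompactSp_of_range W₁.property hj₁ hc) hF'c
    ⟨V, ‹_›, ⟨Iso.refl _⟩⟩ ?_ hP
  refine isElemDistSq_of F'.property (repWith_of_comp_mono j j'.hom hjj hj₁) f'
    (repWith_of_comp_mono f' j'.hom hff hf) (fun z => ?_) fun T x y e hT => ?_
  · have hz : Points.map j'.hom z ∈ Set.range (Points.map j₁.hom) ∪ Set.range (Points.map f) := hr' ▸ ⟨z, rfl⟩
    rcases hz with ⟨u, hu⟩ | ⟨v, hv⟩
    · exact Or.inl ⟨u, (injective_map_of_mono j'.hom) (by rw [← Points.map_comp, hjj, hu])⟩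
    · exact Or.inr ⟨v, (injective_map_of_mono j'.hom) (by rw [← Points.map_comp, hff, hv])⟩
  · refine hinj T x y (by rw [← hff, reassoc_of% e]) fun t ⟨u, hu⟩ => hT t ⟨u, ?_⟩
    refine (injective_map_of_mono j'.hom) ?_
    rw [← Points.map_comp, hjj, hu, Points.map_ofPt, Category.assoc, hff]

theorem holdsAt_start (hW : RepWith @IsOpenImmersion jW.hom) (hWc : AlgSp.IsQuasiCompactSp W.obj)
    (h1 : P W jW) (h2 : Step P jW) : HoldsAt P (Set.range (Points.map jW.hom)) := by
  obtain ⟨U, p, he, -⟩ := X.property.atlas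
  let V : Over S := Over.mk ((⊥ : U.left.Opens).ι ≫ U.hom)
  let ι : V ⟶ U := Over.homMk (⊥ : U.left.Opens).ι rfl
  haveI : IsEmpty ↥V.left := ⟨fun x => x.2⟩
  haveI : IsAffine V.left := isAffine_of_isEmpty
  haveI : IsOpenImmersion ι.left := inferInstanceAs (IsOpenImmersion (⊥ : U.left.Opens).ι)
  haveI : MorphismProperty.IsStableUnderComposition (@Etale : MorphismProperty Scheme.{u}) :=
    ⟨fun f g (_ : Etale f) (_ : Etale g) ↦ inferInstanceAs (Etale (f ≫ g))⟩
  have hf : RepWith @Etale ((yon S).map ι ≫ p) :=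
    repWith_comp (repWith_etale_of_openImm ((AlgSp.repWith_yon_map_iff _ ι).2 ‹_›)) he
  haveI : CompactSpace (Points W.obj) := Groth.Agent.Lib.AlgSpMor.QC.compactSpace_points hWc
  have h := holdsAt_union h2 jW hW (isCompact_range jW.hom) (𝟙 W) (Category.id_comp _) h1
    ((yon S).map ι ≫ p) hf fun T x y _ _ => by
      obtain ⟨a, rfl⟩ := (yon S).map_surjective x
      obtain ⟨b, rfl⟩ := (yon S).map_surjective y
      haveI : IsEmpty T.left := ⟨fun t => IsEmpty.false (a.left t)⟩
      exact congrArg _ (Over.OverMorphism.ext (isInitialOfIsEmpty.hom_ext _ _))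
  have hempty : Set.range (Points.map ((yon S).map ι ≫ p)) = ∅ := Set.eq_empty_iff_forall_notMem.2 fun x ⟨z, _⟩ => by
    obtain ⟨z, rfl⟩ : ∃ z', Points.ofScheme V z' = z := ⟨_, Points.ofScheme_toScheme V z⟩
    exact IsEmpty.false z
  rwa [hempty, Set.union_empty] at h

theorem holdsAt_step (h2 : Step P jW) {O : Set (Points X.obj)}
    (hO : IsOpen O) (hOc : IsCompact O) (hWO : Set.range (Points.map jW.hom) ⊆ O) (h : HoldsAt P O)
    {V : Over S} [IsAffine V.left] (f : (yon S).obj V ⟶ X.obj) (hf : RepWith @Etale f)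
    (hinj : ∀ (T : Over S) (x y : (yon S).obj T ⟶ (yon S).obj V), x ≫ f = y ≫ f →
      (∀ t, Points.ofPt (x ≫ f) t ∉ O) → x = y) :
    HoldsAt P (O ∪ Set.range (Points.map f)) := by
  obtain ⟨F₀, j₀, hF₀, hj₀, hr₀⟩ := exists_open_subspace X.property hO
  obtain ⟨m, hm⟩ := (exists_lift_iff_range_subset hj₀ jW.hom).2 (hr₀ ▸ hWO)
  subst hr₀
  exact holdsAt_union h2 (W₁ := ⟨F₀, hF₀⟩) (ObjectProperty.homMk j₀) hj₀ hOc (ObjectProperty.homMk m)
    (ObjectProperty.hom_ext _ hm) (h ⟨F₀, hF₀⟩ (ObjectProperty.homMk j₀) hj₀ rfl) f hf hinj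

variable [QuasiSeparatedSpace ↥S]

/-- The induction. -/
theorem main (hXc : AlgSp.IsQuasiCompactSp X.obj) (hXs : AlgSp.IsQuasiSeparatedSp X.obj)
    (hjW : RepWith @IsOpenImmersion jW.hom) (hWc : AlgSp.IsQuasiCompactSp W.obj) (h1 : P W jW)
    (h2 : Step P jW) : P X (𝟙 X) := by
  obtain ⟨n, Uo, j, k, T, i, hj, hk, hj1, hemp, hT, hV⟩ := Groth.Agent.S10419.result X hXc hXs
  haveI := fun p => mono_openImm (hj p)
  let K : Set (Points X.obj) := Set.range (Points.map jW.hom)
  let O : ℕ → Set (Points X.obj) := fun p => Set.range (Points.map (j p).hom)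
  have hk' : ∀ p, (k p).hom ≫ (j p).hom = (j (p + 1)).hom := fun p => congrArg (fun m => m.hom) (hk p)
  have hKo : IsOpen K := (isOpenEmbedding_map hjW).isOpen_range
  haveI : CompactSpace (Points W.obj) := Groth.Agent.Lib.AlgSpMor.QC.compactSpace_points hWc
  have hKc : IsCompact K := isCompact_range jW.hom
  suffices key : ∀ d p, 1 ≤ p → p + d = n + 1 → IsCompact (K ∪ O p) ∧ HoldsAt P (K ∪ O p) by
    have h1 : K ∪ O 1 = Set.univ := by
      haveI : IsIso (j 1).hom := inferInstanceAs (IsIso ((ObjectProperty.ι (AlgSp.IsAlgSpace (S := S))).map (j 1)))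
      exact Set.eq_univ_of_forall fun x => Or.inr ⟨Points.map (inv (j 1).hom) x, by
        rw [← Points.map_comp, IsIso.inv_hom_id, Points.map_id]⟩
    exact (key n 1 le_rfl (by omega)).2 X (𝟙 X) (repWith_of_isIso _ _)
      (h1 ▸ Set.range_eq_univ.2 fun x => ⟨x, Points.map_id _⟩)
  intro d
  induction d with
  | zero =>
    intro p _ e
    obtain rfl : p = n + 1 := by omega
    have h0 : O (n + 1) = ∅ := Set.range_eq_empty _
    rw [h0, Set.union_empty]
    exact ⟨hKc, holdsAt_start hjW hWc h1 h2⟩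
  | succ d ih =>
    intro p hp e
    obtain ⟨hc, hH⟩ := ih (p + 1) (by omega) (by omega)
    obtain ⟨V, f, hVs, hVc, hf, hfs, hiso⟩ := hV p hp
    haveI := hVc
    let 𝒰 := V.left.affineCover.finiteSubcover
    let e' := Finite.equivFin 𝒰.I₀
    let Vi : Fin (Nat.card 𝒰.I₀) → Over S := fun l => Over.mk (𝒰.f (e'.symm l) ≫ V.hom)
    let κ : ∀ l, Vi l ⟶ V := fun l => Over.homMk (𝒰.f (e'.symm l)) rfl
    haveI hκi : ∀ l, IsOpenImmersion (κ l).left := fun l => inferInstanceAs (IsOpenImmersion (𝒰.f (e'.symm l)))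
    haveI : ∀ l, IsAffine (Vi l).left := fun l => inferInstanceAs (IsAffine (V.left.affineCover.X _))
    let fl : ∀ l, (yon S).obj (Vi l) ⟶ X.obj := fun l => (yon S).map (κ l) ≫ f ≫ (j p).hom
    have hfl : ∀ l, RepWith @Etale (fl l) := fun l => by
      haveI : MorphismProperty.IsStableUnderComposition (@Etale : MorphismProperty Scheme.{u}) :=
        ⟨fun f g (_ : Etale f) (_ : Etale g) ↦ inferInstanceAs (Etale (f ≫ g))⟩
      exact repWith_comp (repWith_etale_of_openImm ((AlgSp.repWith_yon_map_iff _ (κ l)).2 (hκi l)))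
        (repWith_comp hf (repWith_etale_of_openImm (hj p)))
    have hkO : RepWith @IsOpenImmersion (k p).hom :=
      repWith_of_comp_mono (k p).hom (j p).hom (hk' p) (hj (p + 1))
    have hsq : IsElemDistSq (k p).hom f := ⟨hkO, Groth.Agent.Lib.AlgSpDecent.DescendMor.isEtaleMor_of_repWith hf,
      (T p).obj, pullback (i p).hom f, (i p).hom, pullback.fst _ _, pullback.snd _ _, hT p,
      IsPullback.of_hasPullback _ _, hiso _ _ _ (IsPullback.of_hasPullback _ _)⟩
    let C : ℕ → Set (Points X.obj) := fun m =>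
      K ∪ O (p + 1) ∪ ⋃ l : {l : Fin (Nat.card 𝒰.I₀) // (l : ℕ) < m}, Set.range (Points.map (fl l.1))
    have hC : ∀ m, m ≤ Nat.card 𝒰.I₀ → IsOpen (C m) ∧ IsCompact (C m) ∧ HoldsAt P (C m) := by
      intro m
      induction m with
      | zero =>
        intro _
        have h0 : C 0 = K ∪ O (p + 1) := by
          haveI : IsEmpty {l : Fin (Nat.card 𝒰.I₀) // (l : ℕ) < 0} := ⟨fun l => absurd l.2 (Nat.not_lt_zero _)⟩
          simp only [C, Set.iUnion_of_empty, Set.union_empty]
        rw [h0]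
        exact ⟨hKo.union (isOpenEmbedding_map (hj (p + 1))).isOpen_range, hc, hH⟩
      | succ m ihm =>
        intro hm
        obtain ⟨ho, hcm, hHm⟩ := ihm (by omega)
        let l₀ : Fin (Nat.card 𝒰.I₀) := ⟨m, by omega⟩
        have hs : C (m + 1) = C m ∪ Set.range (Points.map (fl l₀)) := by
          ext x
          simp only [C, Set.mem_union, Set.mem_iUnion]
          constructor
          · rintro (hx | ⟨⟨l, hl⟩, hx⟩)
            · exact Or.inl (Or.inl hx)
            · rcases Nat.lt_succ_iff_lt_or_eq.1 hl with h | h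
              · exact Or.inl (Or.inr ⟨⟨l, h⟩, hx⟩)
              · obtain rfl : l = l₀ := Fin.ext h
                exact Or.inr hx
          · rintro ((hx | ⟨⟨l, hl⟩, hx⟩) | hx)
            · exact Or.inl hx
            · exact Or.inr ⟨⟨l, by omega⟩, hx⟩
            · exact Or.inr ⟨⟨l₀, Nat.lt_succ_self m⟩, hx⟩
        rw [hs]
        haveI : CompactSpace (Points ((yon S).obj (Vi l₀))) := Groth.Agent.Lib.AlgSpMor.QC.compactSpace_yon
        refine ⟨ho.union ?_, hcm.union (isCompact_range (fl l₀)),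
          holdsAt_step h2 ho hcm (fun x hx => Or.inl (Or.inl hx)) hHm (fl l₀) (hfl l₀) fun T' x y hxy ht => ?_⟩
        · exact (Groth.Agent.Lib.AlgSpace.isOpenMap_map (repWith_mono (hfl l₀) fun _ _ g (_ : Etale g) =>
            (inferInstance : UniversallyOpen g))).isOpen_range
        have hxy' : (x ≫ (yon S).map (κ l₀)) ≫ f = (y ≫ (yon S).map (κ l₀)) ≫ f :=
          (cancel_mono (j p).hom).1 (by simpa only [fl, Category.assoc] using hxy)
        obtain ⟨Z, gz, u, hcov, htrue, hu⟩ := Groth.Agent.Lib.AlgSpEDS.exists_cover_of_eq (IsAlgSpace.yon_obj V)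
          (Uo p).property hsq _ _ hxy'
        haveI : IsEmpty ↥(Z false).left := ⟨fun z => ht ((gz false).left z) (Or.inl (Or.inr ?_))⟩
        · haveI : Mono ((yon S).map (κ l₀)) := mono_openImm ((AlgSp.repWith_yon_map_iff _ (κ l₀)).2 (hκi l₀))
          refine (cancel_mono ((yon S).map (κ l₀))).1 (hom_ext_of_family Z gz hcov ?_)
          rintro (_ | _)
          · exact (subsingleton_yon_hom_of_isEmpty _ _).elim _ _
          · exact htrue
        refine ⟨Points.ofPt u z, ?_⟩
        rw [← hk' p, Points.map_comp, Points.map_ofPt, Points.map_ofPt, hu, ← ofPt_yon_map_comp]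
        simp only [fl, Category.assoc]
    have hall : C (Nat.card 𝒰.I₀) = K ∪ O p := by
      apply Set.Subset.antisymm
      · rintro x ((hx | ⟨z, rfl⟩) | hx)
        · exact Or.inl hx
        · exact Or.inr ⟨Points.map (k p).hom z, by rw [← Points.map_comp, hk']⟩
        · obtain ⟨l, z, rfl⟩ := Set.mem_iUnion.1 hx
          exact Or.inr ⟨Points.map ((yon S).map (κ l.1) ≫ f) z, by
            rw [← Points.map_comp]; simp only [fl, Category.assoc]⟩
      · rintro _ (hx | ⟨z, rfl⟩)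
        · exact Or.inl (Or.inl hx)
        obtain ⟨v, rfl⟩ := surjective_ofPt hfs z
        obtain ⟨l, y, hy⟩ := 𝒰.exists_eq v
        refine Or.inr (Set.mem_iUnion.2 ⟨⟨e' l, (e' l).2⟩, ?_⟩)
        obtain ⟨l', rfl⟩ := e'.symm.surjective l
        rw [Equiv.apply_symm_apply]
        refine ⟨Points.ofScheme (Vi l') y, ?_⟩
        rw [← Points.ofPt_eq_map_ofScheme, Points.map_ofPt, ofPt_yon_map_comp]
        exact congrArg (Points.ofPt (f ≫ (j p).hom)) hy
    obtain ⟨-, h1, h2⟩ := hC _ le_rfl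
    rw [hall] at h1 h2
    exact ⟨h1, h2⟩

end Groth.Agent.Lib.AlgSpEDS.OpenInduction
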