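import Groth.Prelude.Def_AlgSpSub
import Groth.Agent.Lib.AlgSpTopInv.Glue
import Groth.Agent.Lib.AlgSpace.Coprod
import Groth.Agent.S10265

/-!
# Elementary distinguished squares
-/

set_option autoImplicit false
set_option linter.style.haveILetI false

universe u

open CategoryTheory CategoryTheory.Limits AlgebraicGeometry

namespace Groth.Agent.Lib.AlgSpEDS

open AlgSp (Sp yon Representable RepWith IsAlgSpace Points Space IsEtaleMor IsElemDistSq)
open Groth.Agent.Lib.AlgSpace Groth.Agent.Lib.AlgSpMor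

variable {S : Scheme.{u}} {U V W : Sp S} {j : U ⟶ W} {f : V ⟶ W}

theorem mem_range_or (h : IsElemDistSq j f) (w : Points W) :
    w ∈ Set.range (Points.map j) ∨ w ∈ Set.range (Points.map f) := by
  obtain ⟨-, -, T, P, i, p₁, p₂, ⟨-, hr, -⟩, sq, _⟩ := h
  refine or_iff_not_imp_left.2 fun hw ↦ ?_
  obtain ⟨t, rfl⟩ : w ∈ Set.range (Points.map i) := by rw [hr]; exact hw
  exact ⟨Points.map (inv p₁ ≫ p₂) t, by
    rw [← Points.map_comp, Category.assoc, ← sq.w, IsIso.inv_hom_id_assoc]⟩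

theorem isOpenImmersion_diagonal (hV : IsAlgSpace V) (hW : IsAlgSpace W) (h : IsEtaleMor f) :
    RepWith @IsOpenImmersion (pullback.diagonal f) := by
  obtain ⟨-, -, -, -, -, hun⟩ :=
    Groth.Agent.S10265.result (X := ⟨V, hV⟩) (Y := ⟨W, hW⟩) (ObjectProperty.homMk f) h
  exact EtaleMono.repWith_openImmersion_diagonal hV hW hun

/-- Two maps to `V` agreeing in `W` agree locally, outside the open `U`. -/
theorem exists_cover_of_eq (hV : IsAlgSpace V) (hW : IsAlgSpace W) (h : IsElemDistSq j f)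
    {T : Over S} (x y : (yon S).obj T ⟶ V) (e : x ≫ f = y ≫ f) :
    ∃ (Z : Bool → Over S) (g : ∀ i, Z i ⟶ T) (u : (yon S).obj (Z false) ⟶ U),
      Sieve.ofArrows Z g ∈ AlgSp.J S T ∧ (yon S).map (g true) ≫ x = (yon S).map (g true) ≫ y ∧
        u ≫ j = (yon S).map (g false) ≫ x ≫ f := by
  have hd := isOpenImmersion_diagonal hV hW h.2.1
  obtain ⟨hj, -, T₀, P, i, p₁, p₂, ⟨-, hr, -⟩, sq, _⟩ := h
  let ρ := pullback.lift x y e
  obtain ⟨A, a, c, sqA, haO⟩ := repWith_exists hd ρ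
  obtain ⟨B, b, u, sqB, hbO⟩ := repWith_exists hj (x ≫ f)
  haveI : IsOpenImmersion a.left := haO
  haveI : IsOpenImmersion b.left := hbO
  refine ⟨fun i ↦ cond i A B, fun i ↦ match i with | true => a | false => b, u,
    ofArrows_mem_J _ _ ?_ ?_ fun t ↦ ?_, ?_, sqB.w⟩
  · rintro (_ | _)
    · exact (inferInstance : Flat b.left)
    · exact (inferInstance : Flat a.left)
  · rintro (_ | _)
    · exact (inferInstance : LocallyOfFinitePresentation b.left)
    · exact (inferInstance : LocallyOfFinitePresentation a.left)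
  · by_cases ht : Points.ofPt (x ≫ f) t ∈ Set.range (Points.map j)
    · have ht' : t ∈ Points.ofPt (x ≫ f) ⁻¹' (Points.map j '' Set.univ) := by
        rw [Set.image_univ]; exact ht
      rw [preimage_image_map sqB] at ht'
      obtain ⟨y, -, hy⟩ := ht'
      exact ⟨false, y, hy⟩
    · obtain ⟨t₀, ht₀⟩ : Points.ofPt (x ≫ f) t ∈ Set.range (Points.map i) := by rw [hr]; exact ht
      have sqk : IsPullback (inv p₁ ≫ p₂) (𝟙 T₀) f i :=
        (IsPullback.of_iso sq.flip (asIso p₁) (Iso.refl _) (Iso.refl _) (Iso.refl _)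
          (by simp) (by simp) (by simp) (by simp))
      have ht' : t ∈ Points.ofPt ρ ⁻¹' (Points.map (pullback.diagonal f) '' Set.univ) := by
        rw [Set.image_univ]
        refine AlgSpTopInv.mem_range_diagonal sqk _ ⟨t₀, ?_⟩
        rw [Points.map_ofPt, ht₀]
        congr 1
        exact (pullback.lift_fst_assoc _ _ _ _).symm
      rw [preimage_image_map sqA] at ht'
      obtain ⟨y, -, hy⟩ := ht'
      exact ⟨true, y, hy⟩
  · have e1 := congr($(sqA.w) ≫ pullback.fst f f)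
    have e2 := congr($(sqA.w) ≫ pullback.snd f f)
    simp only [Category.assoc, pullback.diagonal_fst, pullback.diagonal_snd, Category.comp_id, ρ,
      pullback.lift_fst, pullback.lift_snd] at e1 e2
    exact e1.symm.trans e2

/-- Morphisms to `Z` compatible on the overlap agree on pairs of points with the same image. -/
theorem compat {P Z : Sp S} (hV : IsAlgSpace V) (hW : IsAlgSpace W) (h : IsElemDistSq j f)
    {p : P ⟶ U} {q : P ⟶ V} (hP : IsPullback p q j f) {a : U ⟶ Z} {b : V ⟶ Z}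
    (w : p ≫ a = q ≫ b) {T : Over S} (x y : (yon S).obj T ⟶ V) (e : x ≫ f = y ≫ f) :
    x ≫ b = y ≫ b := by
  obtain ⟨D, g, u, hcov, hxy, hu⟩ := exists_cover_of_eq hV hW h x y e
  refine hom_ext_of_family D g hcov ?_
  rintro (_ | _)
  · have hl : ∀ z : (yon S).obj T ⟶ V, z ≫ f = x ≫ f →
        (yon S).map (g false) ≫ z ≫ b = u ≫ a := fun z hz ↦ by
      rw [← Category.assoc, ← hP.lift_snd u ((yon S).map (g false) ≫ z)
        (by rw [hu, Category.assoc, hz]), Category.assoc, ← w, ← Category.assoc, hP.lift_fst]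
    rw [hl x rfl, hl y e.symm]
  · rw [reassoc_of% hxy]

theorem compat_mixed {P Z : Sp S} {p : P ⟶ U} {q : P ⟶ V} (hP : IsPullback p q j f) {a : U ⟶ Z}
    {b : V ⟶ Z} (w : p ≫ a = q ≫ b) {T : Over S} (x : (yon S).obj T ⟶ U) (y : (yon S).obj T ⟶ V)
    (e : x ≫ j = y ≫ f) : x ≫ a = y ≫ b := by
  rw [← hP.lift_fst x y e, Category.assoc, w, ← Category.assoc, hP.lift_snd]

/-- An elementary distinguished square is a pushout of sheaves. -/
theorem existsUnique_desc {P Z : Sp S} (hU : IsAlgSpace U) (hV : IsAlgSpace V) (hW : IsAlgSpace W)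
    (h : IsElemDistSq j f) {p : P ⟶ U} {q : P ⟶ V} (hP : IsPullback p q j f) (a : U ⟶ Z)
    (b : V ⟶ Z) (w : p ≫ a = q ≫ b) : ∃! c : W ⟶ Z, j ≫ c = a ∧ f ≫ c = b := by
  obtain ⟨U₀, aU, haU, haUs⟩ := hU.atlas
  obtain ⟨V₀, aV, haV, haVs⟩ := hV.atlas
  haveI : MorphismProperty.IsStableUnderComposition (@Etale : MorphismProperty Scheme.{u}) :=
    ⟨fun f g (_ : Etale f) (_ : Etale g) ↦ inferInstanceAs (Etale (f ≫ g))⟩
  haveI : Mono j := mono_of_repWith (P := @IsOpenImmersion)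
    (fun _ _ g (_ : IsOpenImmersion g) ↦ (inferInstance : Mono g)) h.1
  let D : ULift.{u} Bool → Over S := fun i ↦ cond i.down V₀ U₀
  let F : ULift.{u} Bool → Sp S := fun i ↦ (yon S).obj (D i)
  let hc : IsColimit (Cofan.mk ((yon S).obj (sigmaOver D))
    fun i ↦ (yon S).map (sigmaOverι D i)) := isColimitSigmaOver D
  let k : ∀ i, (yon S).obj (D i) ⟶ W := fun i ↦ match i with
    | ⟨true⟩ => aV ≫ f
    | ⟨false⟩ => aU ≫ j
  let m : ∀ i, (yon S).obj (D i) ⟶ Z := fun i ↦ match i with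
    | ⟨true⟩ => aV ≫ b
    | ⟨false⟩ => aU ≫ a
  obtain ⟨c₀, hc₀, -⟩ := existsUnique_sigmaOver_desc D k
  obtain ⟨m₀, hm₀, -⟩ := existsUnique_sigmaOver_desc D m
  have hjE : IsEtaleMor j := AlgSpDecent.DescendMor.isEtaleMor_of_repWith
    (repWith_mono h.1 fun _ _ g (_ : IsOpenImmersion g) ↦ (inferInstance : Etale g))
  have he : RepWith @Etale c₀ := by
    refine repWith_of_inj hc @Etale fun i ↦ ?_
    rw [show (Cofan.mk _ fun i ↦ (yon S).map (sigmaOverι D i)).inj i ≫ c₀ = k i from hc₀ i]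
    obtain ⟨_ | _⟩ := i
    · exact hjE aU haU
    · exact h.2.1 aV haV
  have hs : RepWith @Surjective c₀ := by
    refine repWith_surjective_of_points he.rep fun x ↦ ?_
    haveI := isLocallySurjective_of_etale haU haUs
    haveI := isLocallySurjective_of_etale haV haVs
    rcases mem_range_or h x with ⟨y, rfl⟩ | ⟨y, rfl⟩
    · obtain ⟨y, rfl⟩ := surjective_map_of_isLocallySurjective aU y
      exact ⟨Points.map ((yon S).map (sigmaOverι D ⟨false⟩)) y, by
        rw [← Points.map_comp, hc₀, ← Points.map_comp]⟩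
    · obtain ⟨y, rfl⟩ := surjective_map_of_isLocallySurjective aV y
      exact ⟨Points.map ((yon S).map (sigmaOverι D ⟨true⟩)) y, by
        rw [← Points.map_comp, hc₀, ← Points.map_comp]⟩
  haveI := isLocallySurjective_of_etale he hs
  haveI := isLocallySurjective_of_etale haU haUs
  haveI := isLocallySurjective_of_etale haV haVs
  have hkm : ∀ (i i' : ULift.{u} Bool) (T : Over S) (x : (yon S).obj T ⟶ (yon S).obj (D i))
      (y : (yon S).obj T ⟶ (yon S).obj (D i')), x ≫ k i = y ≫ k i' → x ≫ m i = y ≫ m i' := by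
    rintro ⟨_ | _⟩ ⟨_ | _⟩ T x y e
    · have e' : x ≫ aU = y ≫ aU := (cancel_mono j).1 (by simpa [k] using e)
      show x ≫ aU ≫ a = y ≫ aU ≫ a
      rw [reassoc_of% e']
    · simpa [m] using compat_mixed hP w (x ≫ aU) (y ≫ aV) (by simpa [k] using e)
    · simpa [m] using (compat_mixed hP w (y ≫ aU) (x ≫ aV) (by simpa [k] using e.symm)).symm
    · simpa [m] using compat hV hW h hP w (x ≫ aV) (y ≫ aV) (by simpa [k] using e)
  obtain ⟨R, r₁, r₂, sqR⟩ := exists_isPullback_yon hW.diag c₀ c₀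
  obtain ⟨l, hl⟩ := exists_desc c₀ sqR m₀ (by
    obtain ⟨V1, u1, x1, hu1, hcov1, hx1, -⟩ := exists_decomposition hc ((yon S).map r₁)
    refine hom_ext_of_family V1 u1 (ofArrows_mem_J _ _
      (fun i ↦ haveI := (hu1 i).1; inferInstance)
      (fun i ↦ haveI := (hu1 i).1; inferInstance) hcov1) fun i ↦ ?_
    obtain ⟨V2, u2, x2, hu2, hcov2, hx2, -⟩ :=
      exists_decomposition hc ((yon S).map (u1 i) ≫ (yon S).map r₂)
    refine hom_ext_of_family V2 u2 (ofArrows_mem_J _ _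
      (fun i ↦ haveI := (hu2 i).1; inferInstance)
      (fun i ↦ haveI := (hu2 i).1; inferInstance) hcov2) fun i' ↦ ?_
    have h1 : (yon S).map (u2 i') ≫ (yon S).map (u1 i) ≫ (yon S).map r₁ =
        ((yon S).map (u2 i') ≫ x1 i) ≫ (yon S).map (sigmaOverι D i) := by
      rw [Category.assoc, ← hx1 i]; rfl
    have h2 : (yon S).map (u2 i') ≫ (yon S).map (u1 i) ≫ (yon S).map r₂ =
        x2 i' ≫ (yon S).map (sigmaOverι D i') := by
      rw [← hx2 i']; rfl
    have hk : ((yon S).map (u2 i') ≫ x1 i) ≫ k i = x2 i' ≫ k i' := by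
      rw [← hc₀ i, ← hc₀ i', ← Category.assoc _ _ c₀, ← h1, ← Category.assoc _ _ c₀, ← h2]
      simp only [Category.assoc, sqR.w]
    have hm := hkm i i' _ _ _ hk
    rw [← hm₀ i, ← hm₀ i', ← Category.assoc _ _ m₀, ← h1, ← Category.assoc _ _ m₀, ← h2] at hm
    simpa only [Category.assoc] using hm)
  refine ⟨l, ⟨?_, ?_⟩, fun l' ⟨hl₁, hl₂⟩ ↦ ?_⟩
  · rw [← cancel_epi aU, ← Category.assoc, show aU ≫ j = k ⟨false⟩ from rfl]
    exact ((congrArg (· ≫ l) (hc₀ ⟨false⟩).symm).trans (by rw [Category.assoc, hl])).trans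
      (hm₀ ⟨false⟩)
  · rw [← cancel_epi aV, ← Category.assoc, show aV ≫ f = k ⟨true⟩ from rfl]
    exact ((congrArg (· ≫ l) (hc₀ ⟨true⟩).symm).trans (by rw [Category.assoc, hl])).trans
      (hm₀ ⟨true⟩)
  · rw [← cancel_epi c₀, hl]
    refine hom_ext_of_family D (sigmaOverι D) (sigmaOverι_mem_J D) fun i ↦ ?_
    rw [hm₀, reassoc_of% (hc₀ i)]
    obtain ⟨_ | _⟩ := i
    · show (aU ≫ j) ≫ l' = aU ≫ a
      rw [Category.assoc, hl₁]
    · show (aV ≫ f) ≫ l' = aV ≫ b
      rw [Category.assoc, hl₂]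

end Groth.Agent.Lib.AlgSpEDS
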