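import Groth.Agent.Lib.AlgSpEDS.OpenInduction
import Groth.Agent.Lib.EtMod.Coherent
import Groth.Agent.Lib.EtMod.SubFam.Induct

/-!
# Enlarging an open subspace by an affine etale neighbourhood
-/

universe u

set_option backward.isDefEq.respectTransparency false
set_option linter.style.haveILetI false

open CategoryTheory CategoryTheory.Limits AlgebraicGeometry

namespace Groth.Agent.Lib.AlgSpEDS.Enlarge

open AlgSp (Sp yon RepWith IsAlgSpace Points Space IsEtaleMor IsElemDistSq)
open Groth.Agent.Lib.AlgSpace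
open Groth.Agent.H8.EDSInduction (mono_openImm repWith_etale_of_openImm isElemDistSq_of)

variable {S : Scheme.{u}} {X : Space S}

/-- An affine etale neighbourhood injective outside an open set, and not inside it. -/
def Found (O : Set (Points X.obj)) : Prop :=
  ∃ (V : Over S) (_ : IsAffine V.left) (f : (yon S).obj V ⟶ X.obj), RepWith @Etale f ∧
    (∀ (T : Over S) (x y : (yon S).obj T ⟶ (yon S).obj V), x ≫ f = y ≫ f →
      (∀ t, Points.ofPt (x ≫ f) t ∉ O) → x = y) ∧
    ¬ Set.range (Points.map f) ⊆ O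

theorem found_step {O : Set (Points X.obj)} {W₁ W₂ V : Space S} {j₁ : W₁ ⟶ X} {j₂ : W₂ ⟶ X} {k : W₁ ⟶ W₂}
    {f : V ⟶ W₂} (hj₂ : RepWith @IsOpenImmersion j₂.hom) (hk : k ≫ j₂ = j₁)
    (hO : Set.range (Points.map j₁.hom) = O) {T : Over S} (hT : IsAffine T.left) (e : (yon S).obj T ≅ V.obj)
    (hsq : IsElemDistSq k.hom f.hom) (hne : ¬ Set.range (Points.map j₂.hom) ⊆ O) : Found O := by
  haveI := mono_openImm hj₂
  haveI : MorphismProperty.IsStableUnderComposition (@Etale : MorphismProperty Scheme.{u}) :=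
    ⟨fun f g (_ : Etale f) (_ : Etale g) ↦ inferInstanceAs (Etale (f ≫ g))⟩
  have hk' : k.hom ≫ j₂.hom = j₁.hom := congrArg (fun m => m.hom) hk
  refine ⟨T, hT, e.hom ≫ f.hom ≫ j₂.hom, ?_, fun T' x y hxy ht => ?_, fun hsub => hne ?_⟩
  · rw [← Category.assoc]
    exact repWith_comp (hsq.2.1 _ (repWith_of_isIso _ _)) (repWith_etale_of_openImm hj₂)
  · refine (cancel_mono e.hom).1 ?_
    have hxy' : (x ≫ e.hom) ≫ f.hom = (y ≫ e.hom) ≫ f.hom :=
      (cancel_mono j₂.hom).1 (by simpa only [Category.assoc] using hxy)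
    obtain ⟨Z, gz, u, hcov, htrue, hu⟩ :=
      Groth.Agent.Lib.AlgSpEDS.exists_cover_of_eq V.property W₂.property hsq _ _ hxy'
    haveI : IsEmpty ↥(Z false).left := ⟨fun z => ht ((gz false).left z) (hO ▸ ⟨Points.ofPt u z, ?_⟩)⟩
    · refine hom_ext_of_family Z gz hcov ?_
      rintro (_ | _)
      · exact (subsingleton_yon_hom_of_isEmpty _ _).elim _ _
      · exact htrue
    rw [← hk', Points.map_comp, Points.map_ofPt, Points.map_ofPt, hu, ← ofPt_yon_map_comp]
    simp only [Category.assoc]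
  · rintro _ ⟨w, rfl⟩
    by_cases hw : w ∈ Set.range (Points.map k.hom)
    · obtain ⟨w', rfl⟩ := hw
      rw [← Points.map_comp, hk', ← hO]
      exact ⟨w', rfl⟩
    · obtain ⟨-, -, T₀, P, i, p₁, p₂, hi, sq, hp⟩ := hsq
      obtain ⟨t, rfl⟩ : w ∈ Set.range (Points.map i) := hi.2.1.superset hw
      haveI := hp
      refine hsub ⟨Points.map e.inv (Points.map p₂ (Points.map (inv p₁) t)), ?_⟩
      rw [← Points.map_comp, Iso.inv_hom_id_assoc, ← Points.map_comp, ← reassoc_of% sq.w, ← Points.map_comp,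
        IsIso.inv_hom_id_assoc, ← Points.map_comp]

theorem found [QuasiSeparatedSpace ↥S] (hXc : AlgSp.IsQuasiCompactSp X.obj)
    (hXs : AlgSp.IsQuasiSeparatedSp X.obj) {U : Space S} (j : U ⟶ X) (hj : RepWith @IsOpenImmersion j.hom)
    (hUc : AlgSp.IsQuasiCompactSp U.obj) (hne : Set.range (Points.map j.hom) ≠ Set.univ) :
    Found (Set.range (Points.map j.hom)) := by
  have h := OpenInduction.main (X := X) (jW := j)
    (P := fun F jF => Set.range (Points.map jF.hom) ⊆ Set.range (Points.map j.hom) ∨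
      Found (Set.range (Points.map j.hom)))
    hXc hXs hj hUc (Or.inl subset_rfl)
    fun W₁ W₂ V j₁ j₂ k m f _ hj₂ hk hm _ _ hV hsq hP => by
      rcases hP with hP | hP
      · by_cases hsub : Set.range (Points.map j₂.hom) ⊆ Set.range (Points.map j.hom)
        · exact Or.inl hsub
        obtain ⟨T, hT, ⟨e⟩⟩ := hV
        refine Or.inr (found_step hj₂ hk (Set.Subset.antisymm hP ?_) hT e hsq hsub)
        rintro _ ⟨w, rfl⟩
        refine ⟨Points.map m.hom w, ?_⟩
        rw [← Points.map_comp]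
        exact congrArg (fun q => Points.map q w) (congrArg (fun m => m.hom) hm)
      · exact Or.inr hP
  rcases h with h | h
  · exact absurd (Set.eq_univ_of_univ_subset fun x _ => h ⟨x, Points.map_id _⟩) hne
  · exact h

theorem isCompact_of_noeth (hXc : AlgSp.IsQuasiCompactSp X.obj) (hN : AlgSp.IsLocNoethSp X.obj)
    {O : Set (Points X.obj)} (hO : IsOpen O) : IsCompact O := by
  have := Groth.Agent.Lib.AlgSpMor.QC.compactSpace_points hXc
  obtain ⟨A, q, hA, hq, hqs⟩ := Groth.Agent.Lib.AlgSpMor.QC.exists_affine_atlas X.property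
  haveI : IsAffine (AlgSp.EtOver.mk q hq).obj.left.left := hA
  haveI := Groth.Agent.Lib.EtMod.isNoetherianRing_fn hN (AlgSp.EtOver.mk q hq)
  haveI : TopologicalSpace.NoetherianSpace ↥A.left := by
    haveI : IsNoetherianRing Γ(A.left, ⊤) := Groth.Agent.Lib.EtMod.isNoetherianRing_fn hN (AlgSp.EtOver.mk q hq)
    exact (TopologicalSpace.noetherianSpace_iff_of_homeomorph A.left.isoSpec.inv.homeomorph).1 inferInstance
  rw [← Set.image_preimage_eq O (Groth.Agent.Lib.AlgSpDecent.Core.surjective_ofPt hqs)]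
  exact (TopologicalSpace.NoetherianSpace.isCompact _).image (Points.continuous_ofPt q)

theorem exists_square [QuasiSeparatedSpace ↥S] {U : Space S} (hXc : AlgSp.IsQuasiCompactSp X.obj)
    (hXs : AlgSp.IsQuasiSeparatedSp X.obj) (hN : AlgSp.IsLocNoethSp X.obj)
    (j : U ⟶ X) (hj : RepWith @IsOpenImmersion j.hom) (hne : Set.range (Points.map j.hom) ≠ Set.univ) :
    ∃ (V : Over S) (_ : IsAffine V.left) (W : Space S) (jW : W ⟶ X) (jU : U ⟶ W)
      (φ : (AlgSp.ofScheme S).obj V ⟶ W) (P : Space S) (p : P ⟶ U) (q : P ⟶ (AlgSp.ofScheme S).obj V),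
      RepWith @Etale (φ ≫ jW).hom ∧ RepWith @IsOpenImmersion jW.hom ∧ jU ≫ jW = j ∧
        Set.range (Points.map jW.hom) =
          Set.range (Points.map j.hom) ∪ Set.range (Points.map (φ ≫ jW).hom) ∧
        Set.range (Points.map jW.hom) ≠ Set.range (Points.map j.hom) ∧
        IsElemDistSq jU.hom φ.hom ∧ IsPullback p.hom q.hom jU.hom φ.hom ∧ AlgSp.IsDominantMor p.hom := by
  classical
  haveI : MorphismProperty.IsStableUnderComposition (@Etale : MorphismProperty Scheme.{u}) :=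
    ⟨fun f g (_ : Etale f) (_ : Etale g) ↦ inferInstanceAs (Etale (f ≫ g))⟩
  set O := Set.range (Points.map j.hom) with hOdef
  have hOo : IsOpen O := (isOpenEmbedding_map hj).isOpen_range
  have hUc : AlgSp.IsQuasiCompactSp U.obj :=
    Groth.Agent.H8.EDSInduction.isQuasiCompactSp_of_range U.property hj (isCompact_of_noeth hXc hN hOo)
  obtain ⟨V₀, hV₀, f, hf, hinj, hfne⟩ := found hXc hXs j hj hUc hne
  have := Groth.Agent.Lib.AlgSpMor.QC.compactSpace_points hUc
  obtain ⟨A, qA, hA, hqA, hqAs⟩ := Groth.Agent.Lib.AlgSpMor.QC.exists_affine_atlas U.property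
  let Z : PUnit.{u + 1} ⊕ PUnit.{u + 1} → Over S := Sum.elim (fun _ => A) (fun _ => V₀)
  haveI : ∀ i, IsAffine (Z i).left := by rintro (_ | _) <;> assumption
  let a : ∀ i, (yon S).obj (Z i) ⟶ X.obj := fun i => match i with
    | Sum.inl _ => qA ≫ j.hom
    | Sum.inr _ => f
  obtain ⟨φ₀, hφ₀, -⟩ := existsUnique_sigmaOver_desc Z a
  have hφe : RepWith @Etale φ₀ := repWith_of_inj (isColimitSigmaOver Z) @Etale fun i => by
    change RepWith @Etale ((yon S).map (sigmaOverι Z i) ≫ φ₀)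
    rw [hφ₀ i]
    rcases i with _ | _
    · exact repWith_comp hqA (repWith_etale_of_openImm hj)
    · exact hf
  haveI hVaff : IsAffine (sigmaOver Z).left := inferInstanceAs (IsAffine (∐ fun i => (Z i).left))
  have hpts : ∀ v : ↥(sigmaOver Z).left, ∃ i z, (sigmaOverι Z i).left z = v := fun v =>
    (sigmaOpenCover (fun i ↦ (Z i).left)).exists_eq v
  have hcomp : ∀ i (z : ↥(Z i).left), Points.ofPt φ₀ ((sigmaOverι Z i).left z) = Points.ofPt (a i) z :=
    fun i z => by rw [← hφ₀ i, ofPt_yon_map_comp]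
  have hin : ∀ z, Points.ofPt φ₀ ((sigmaOverι Z (Sum.inl PUnit.unit)).left z) ∈ O := fun z => by
    rw [hcomp]
    exact ⟨Points.ofPt qA z, Points.map_ofPt _ _ _⟩
  have hr : O ∪ Set.range (Points.map φ₀) = O ∪ Set.range (Points.map f) := by
    apply Set.Subset.antisymm
    · rintro x (hx | ⟨z, rfl⟩)
      · exact Or.inl hx
      obtain ⟨v, rfl⟩ : ∃ v, Points.ofScheme (sigmaOver Z) v = z := ⟨_, Points.ofScheme_toScheme _ z⟩
      obtain ⟨i, w, rfl⟩ := hpts v
      rw [← Points.ofPt_eq_map_ofScheme]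
      rcases i with _ | _
      · exact Or.inl (hin w)
      · rw [hcomp]
        exact Or.inr ⟨Points.ofScheme V₀ w, (Points.ofPt_eq_map_ofScheme _ _).symm⟩
    · rintro x (hx | ⟨z, rfl⟩)
      · exact Or.inl hx
      refine Or.inr ⟨Points.map ((yon S).map (sigmaOverι Z (Sum.inr PUnit.unit))) z, ?_⟩
      rw [← Points.map_comp, hφ₀]
  have hWo : IsOpen (O ∪ Set.range (Points.map φ₀)) := hOo.union
    (isOpenMap_map (repWith_mono hφe fun _ _ g (_ : Etale g) => (inferInstance : UniversallyOpen g))).isOpen_range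
  obtain ⟨F, jW, hF, hjW, hrW⟩ := exists_open_subspace X.property hWo
  haveI := mono_openImm hjW
  haveI := mono_openImm hj
  obtain ⟨jU, hjU⟩ := (exists_lift_iff_range_subset hjW j.hom).2 (hrW ▸ Set.subset_union_left)
  obtain ⟨φ, hφ⟩ := (exists_lift_iff_range_subset hjW φ₀).2 (hrW ▸ Set.subset_union_right)
  have hjUo : RepWith @IsOpenImmersion jU := Groth.Agent.H8.EDSMain.repWith_of_comp_mono jU jW hjU hj
  refine ⟨sigmaOver Z, hVaff, ⟨F, hF⟩, ObjectProperty.homMk jW, ObjectProperty.homMk jU,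
    ObjectProperty.homMk φ, ⟨pullback jU φ, isAlgSpace_of_isPullback (IsPullback.of_hasPullback jU φ) hF.diag
      U.property (IsAlgSpace.yon_obj _)⟩, ObjectProperty.homMk (pullback.fst jU φ),
    ObjectProperty.homMk (pullback.snd jU φ), ?_, hjW, ObjectProperty.hom_ext _ hjU, ?_, ?_, ?_,
    IsPullback.of_hasPullback jU φ, ?_⟩
  · show RepWith @Etale (φ ≫ jW)
    rwa [hφ]
  · show Set.range (Points.map jW) = O ∪ Set.range (Points.map (φ ≫ jW))
    rw [hφ, hrW]
  · show Set.range (Points.map jW) ≠ O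
    rw [hrW, hr]
    exact fun h => hfne (Set.subset_union_right.trans h.le)
  · refine isElemDistSq_of hF hjUo φ (Groth.Agent.H8.EDSMain.repWith_of_comp_mono φ jW hφ hφe) (fun w => ?_)
      fun T x y e ht => ?_
    · rcases (hrW ▸ ⟨w, rfl⟩ : Points.map jW w ∈ O ∪ Set.range (Points.map φ₀)) with ⟨u, hu⟩ | ⟨v, hv⟩
      · exact Or.inl ⟨u, (injective_map_of_mono jW) (by rw [← Points.map_comp, hjU, hu])⟩
      · exact Or.inr ⟨v, (injective_map_of_mono jW) (by rw [← Points.map_comp, hφ, hv])⟩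
    · obtain ⟨xa, rfl⟩ := (yon S).map_surjective x
      obtain ⟨ya, rfl⟩ := (yon S).map_surjective y
      have e' : (yon S).map xa ≫ φ₀ = (yon S).map ya ≫ φ₀ := by rw [← hφ, reassoc_of% e]
      have hO' : ∀ t, Points.ofPt ((yon S).map xa ≫ φ₀) t ∉ O := fun t ⟨u, hu⟩ => ht t ⟨u, by
        refine (injective_map_of_mono jW) ?_
        rw [← Points.map_comp, hjU, hu, Points.map_ofPt, Category.assoc, hφ]⟩
      let ι₂ : V₀ ⟶ sigmaOver Z := sigmaOverι Z (Sum.inr PUnit.unit)
      haveI : IsOpenImmersion ι₂.left :=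
        inferInstanceAs (IsOpenImmersion (Sigma.ι (fun i ↦ (Z i).left) _))
      have lift : ∀ c : T ⟶ sigmaOver Z, (∀ t, Points.ofPt ((yon S).map c ≫ φ₀) t ∉ O) →
          ∃ c' : T ⟶ V₀, c' ≫ ι₂ = c := fun c hc => by
        have hsub : Set.range c.left ⊆ Set.range ι₂.left := by
          rintro _ ⟨t, rfl⟩
          obtain ⟨i, z, hz⟩ := hpts (c.left t)
          rcases i with ⟨⟩ | ⟨⟩
          · exact absurd (hin z) (by rw [hz, ← ofPt_yon_map_comp]; exact hc t)
          · exact ⟨z, hz⟩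
        refine ⟨Over.homMk (IsOpenImmersion.lift ι₂.left c.left hsub) ?_, Over.OverMorphism.ext ?_⟩
        · rw [← Over.w ι₂, ← Category.assoc, IsOpenImmersion.lift_fac, Over.w c]
        · exact IsOpenImmersion.lift_fac _ _ _
      obtain ⟨x', rfl⟩ := lift xa hO'
      obtain ⟨y', rfl⟩ := lift ya fun t => by rw [← e']; exact hO' t
      simp only [Functor.map_comp, Category.assoc] at e' hO' ⊢
      have hι₂ : (yon S).map ι₂ ≫ φ₀ = f := hφ₀ (Sum.inr PUnit.unit)
      rw [hι₂] at e'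
      simp only [hι₂] at hO'
      rw [hinj T _ _ e' hO']
  · refine Function.Surjective.denseRange fun u => ?_
    obtain ⟨w, rfl⟩ := Groth.Agent.Lib.AlgSpDecent.Core.surjective_ofPt hqAs u
    obtain ⟨z, hz, -⟩ := exists_of_isPullback (IsPullback.of_hasPullback jU φ) (Points.ofPt qA w)
      (Points.ofScheme (sigmaOver Z) ((sigmaOverι Z (Sum.inl PUnit.unit)).left w)) (by
        refine (injective_map_of_mono jW) ?_
        rw [← Points.map_comp, ← Points.map_comp, hjU, hφ, ← Points.ofPt_eq_map_ofScheme, hcomp, Points.map_ofPt])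
    exact ⟨z, hz⟩

end Groth.Agent.Lib.AlgSpEDS.Enlarge
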