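import Groth.Agent.Lib.AlgSpTopInv.Exists
import Groth.Agent.Lib.AlgSpace.Coprod

/-!
# Quotient of a space by the relation given by a map on an open subspace

For an open `ι : B ⟶ A` and a separated etale `h : B ⟶ U`, two points of `A` are identified if they
agree or if they both lie in `B` and have the same image in `U`.
-/

set_option autoImplicit false
set_option linter.style.haveILetI false

universe u

open CategoryTheory CategoryTheory.Limits AlgebraicGeometry

namespace Groth.Agent.Lib.AlgSpEDS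

open AlgSp (Sp yon Representable RepWith IsAlgSpace Points Space IsEtaleMor IsSeparatedMor)
open Groth.Agent.Lib.AlgSpace Groth.Agent.Lib.AlgSpMor

variable {S : Scheme.{u}} {A B U : Sp S} (ι : B ⟶ A) (h : B ⟶ U)

/-- The relation, near every point of the test scheme. -/
def Glued {T : Over S} (x y : (yon S).obj T ⟶ A) : Prop :=
  ∀ t : ↥T.left, ∃ (Z : Over S) (g : Z ⟶ T), IsOpenImmersion g.left ∧ (∃ z, g.left z = t) ∧
    ((yon S).map g ≫ x = (yon S).map g ≫ y ∨
      ∃ α β : (yon S).obj Z ⟶ B,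
        α ≫ ι = (yon S).map g ≫ x ∧ β ≫ ι = (yon S).map g ≫ y ∧ α ≫ h = β ≫ h)

variable {ι h}

theorem glued_refl {T : Over S} (x : (yon S).obj T ⟶ A) : Glued ι h x x := fun t ↦
  ⟨T, 𝟙 T, inferInstanceAs (IsOpenImmersion (𝟙 T.left)), ⟨t, rfl⟩, .inl rfl⟩

theorem Glued.symm {T : Over S} {x y : (yon S).obj T ⟶ A} (w : Glued ι h x y) :
    Glued ι h y x := fun t ↦ by
  obtain ⟨Z, g, hg, hz, e | ⟨α, β, ea, eb, e⟩⟩ := w t
  exacts [⟨Z, g, hg, hz, .inl e.symm⟩, ⟨Z, g, hg, hz, .inr ⟨β, α, eb, ea, e.symm⟩⟩]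

/-- A common refinement of two open neighbourhoods. -/
theorem exists_refine {T Z Z' : Over S} (g : Z ⟶ T) (g' : Z' ⟶ T) [IsOpenImmersion g.left]
    [IsOpenImmersion g'.left] {t : ↥T.left} (hz : ∃ z, g.left z = t) (hz' : ∃ z, g'.left z = t) :
    ∃ (W : Over S) (a : W ⟶ Z) (b : W ⟶ Z'), a ≫ g = b ≫ g' ∧ IsOpenImmersion a.left ∧
      IsOpenImmersion b.left ∧ IsOpenImmersion (a ≫ g).left ∧ ∃ w, (a ≫ g).left w = t := by
  obtain ⟨z, hz⟩ := hz
  obtain ⟨z', hz'⟩ := hz'
  have sq := (IsPullback.of_hasPullback g g').map (Over.forget S)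
  haveI ha : IsOpenImmersion (pullback.fst g g').left :=
    MorphismProperty.of_isPullback (P := @IsOpenImmersion) sq.flip ‹IsOpenImmersion g'.left›
  haveI hb : IsOpenImmersion (pullback.snd g g').left :=
    MorphismProperty.of_isPullback (P := @IsOpenImmersion) sq ‹IsOpenImmersion g.left›
  obtain ⟨w, hw, -⟩ := Scheme.exists_preimage_of_isPullback sq z z' (by
    show g.left z = g'.left z'; rw [hz, hz'])
  refine ⟨_, pullback.fst g g', pullback.snd g g', pullback.condition, ha, hb,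
    inferInstanceAs (IsOpenImmersion ((pullback.fst g g').left ≫ g.left)), w, ?_⟩
  rw [Over.comp_left, Scheme.Hom.comp_apply]
  exact (congrArg g.left hw).trans hz

theorem Glued.trans [Mono ι] {T : Over S} {x y z : (yon S).obj T ⟶ A} (w : Glued ι h x y)
    (w' : Glued ι h y z) : Glued ι h x z := fun t ↦ by
  obtain ⟨Z, g, hg, hz, d⟩ := w t
  obtain ⟨Z', g', hg', hz', d'⟩ := w' t
  obtain ⟨W, a, b, e, -, -, hag, hw⟩ := exists_refine g g' hz hz'
  have ey : (yon S).map a ≫ (yon S).map g ≫ y = (yon S).map b ≫ (yon S).map g' ≫ y := by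
    simp only [← Functor.map_comp_assoc, e]
  have ez : (yon S).map b ≫ (yon S).map g' ≫ z = (yon S).map (a ≫ g) ≫ z := by
    simp only [← Functor.map_comp_assoc, e]
  refine ⟨W, a ≫ g, hag, hw, ?_⟩
  rcases d with d | ⟨α, β, eα, eβ, eh⟩ <;> rcases d' with d' | ⟨α', β', eα', eβ', eh'⟩
  · refine .inl ?_
    rw [Functor.map_comp, Category.assoc, d, ey, d', ez, Functor.map_comp, Category.assoc]
  · refine .inr ⟨(yon S).map b ≫ α', (yon S).map b ≫ β', ?_, ?_, ?_⟩
    · rw [Category.assoc, eα', ← ey, ← d, Functor.map_comp, Category.assoc]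
    · rw [Category.assoc, eβ', ez]
    · rw [Category.assoc, Category.assoc, eh']
  · refine .inr ⟨(yon S).map a ≫ α, (yon S).map a ≫ β, ?_, ?_, ?_⟩
    · rw [Category.assoc, eα, Functor.map_comp, Category.assoc]
    · rw [Category.assoc, eβ, ey, d', ez]
    · rw [Category.assoc, Category.assoc, eh]
  · refine .inr ⟨(yon S).map a ≫ α, (yon S).map b ≫ β', ?_, ?_, ?_⟩
    · rw [Category.assoc, eα, Functor.map_comp, Category.assoc]
    · rw [Category.assoc, eβ', ez]
    · have e' : (yon S).map a ≫ β = (yon S).map b ≫ α' := by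
        rw [← cancel_mono ι, Category.assoc, Category.assoc, eβ, eα', ey]
      rw [Category.assoc, Category.assoc, eh, ← eh', reassoc_of% e']

theorem Glued.comp {T T' : Over S} {x y : (yon S).obj T ⟶ A} (w : Glued ι h x y) (p : T' ⟶ T) :
    Glued ι h ((yon S).map p ≫ x) ((yon S).map p ≫ y) := fun t ↦ by
  obtain ⟨Z, g, hg, ⟨z, hz⟩, d⟩ := w (p.left t)
  have sq := (IsPullback.of_hasPullback p g).map (Over.forget S)
  obtain ⟨v, hv, -⟩ := Scheme.exists_preimage_of_isPullback sq t z hz.symm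
  refine ⟨_, pullback.fst p g,
    MorphismProperty.of_isPullback (P := @IsOpenImmersion) sq.flip hg, ⟨v, hv⟩, ?_⟩
  have e : ∀ u : (yon S).obj T ⟶ A, (yon S).map (pullback.fst p g) ≫ (yon S).map p ≫ u =
      (yon S).map (pullback.snd p g) ≫ (yon S).map g ≫ u := fun u ↦ by
    simp only [← Functor.map_comp_assoc, pullback.condition]
  rcases d with d | ⟨α, β, eα, eβ, eh⟩
  · exact .inl (by rw [e, e, d])
  · refine .inr ⟨(yon S).map (pullback.snd p g) ≫ α, (yon S).map (pullback.snd p g) ≫ β,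
      ?_, ?_, ?_⟩
    · rw [Category.assoc, eα, e]
    · rw [Category.assoc, eβ, e]
    · rw [Category.assoc, Category.assoc, eh]

theorem Glued.descend (hι : RepWith @IsOpenImmersion ι) {T T' : Over S} (p : T' ⟶ T)
    (hp : fppfCover p.left) {x y : (yon S).obj T ⟶ A}
    (w : Glued ι h ((yon S).map p ≫ x) ((yon S).map p ≫ y)) : Glued ι h x y := fun t ↦ by
  haveI : Mono ι := mono_of_repWith (P := @IsOpenImmersion)
    (fun _ _ g (_ : IsOpenImmersion g) ↦ (inferInstance : Mono g)) hι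
  haveI := hp.1.2
  haveI := hp.2
  obtain ⟨t', rfl⟩ := hp.1.1.surj t
  obtain ⟨Z, g, hg, ⟨z, hz⟩, d⟩ := w t'
  let k : Z ⟶ T := g ≫ p
  haveI : Flat k.left := inferInstanceAs (Flat (g.left ≫ p.left))
  haveI : LocallyOfFinitePresentation k.left :=
    inferInstanceAs (LocallyOfFinitePresentation (g.left ≫ p.left))
  let O : T.left.Opens := ⟨Set.range k.left, (Scheme.Hom.isOpenMap k.left).isOpen_range⟩
  let Z₀ : Over S := Over.mk (O.ι ≫ T.hom)
  let g₀ : Z₀ ⟶ T := Over.homMk O.ι rfl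
  let k₀ : Z ⟶ Z₀ := Over.homMk (IsOpenImmersion.lift O.ι k.left (O.range_ι).ge) (by
    show _ ≫ O.ι ≫ T.hom = _
    rw [IsOpenImmersion.lift_fac_assoc, Over.w])
  have hk : k₀ ≫ g₀ = k := Over.OverMorphism.ext (IsOpenImmersion.lift_fac _ _ _)
  have hcov : fppfCover k₀.left := by
    have hkl : k₀.left ≫ O.ι = k.left := IsOpenImmersion.lift_fac _ _ _
    refine ⟨⟨⟨fun o ↦ ?_⟩, ?_⟩, ?_⟩
    · obtain ⟨z, hz⟩ := o.2
      refine ⟨z, O.ι.injective ?_⟩
      rw [← Scheme.Hom.comp_apply, hkl]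
      exact hz
    · exact MorphismProperty.of_postcomp (W := @Flat) (W' := @IsOpenImmersion) k₀.left O.ι
        inferInstance (by rw [hkl]; infer_instance)
    · exact MorphismProperty.of_postcomp (W := @LocallyOfFinitePresentation)
        (W' := @IsOpenImmersion) k₀.left O.ι inferInstance (by rw [hkl]; infer_instance)
  haveI := epi_yon_map k₀ hcov
  haveI := isLocallySurjective_yon_map k₀ hcov
  have hkx : ∀ u : (yon S).obj T ⟶ A,
      (yon S).map k₀ ≫ (yon S).map g₀ ≫ u = (yon S).map g ≫ (yon S).map p ≫ u := fun u ↦ by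
    simp only [← Functor.map_comp_assoc, hk, k]
  refine ⟨Z₀, g₀, inferInstanceAs (IsOpenImmersion O.ι), ⟨k₀.left z, ?_⟩, ?_⟩
  · rw [← Scheme.Hom.comp_apply, ← Over.comp_left, hk]
    show (g.left ≫ p.left) z = _
    rw [Scheme.Hom.comp_apply, hz]
  rcases d with d | ⟨α, β, eα, eβ, eh⟩
  · exact .inl (by rw [← cancel_epi ((yon S).map k₀), hkx, hkx, d])
  · have hlift : ∀ (u : (yon S).obj T ⟶ A) (γ : (yon S).obj Z ⟶ B),
        γ ≫ ι = (yon S).map g ≫ (yon S).map p ≫ u →
        ∃ γ₀, γ₀ ≫ ι = (yon S).map g₀ ≫ u ∧ (yon S).map k₀ ≫ γ₀ = γ := fun u γ eγ ↦ by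
      obtain ⟨γ₀, hγ₀⟩ := (exists_lift_iff_range_subset hι ((yon S).map g₀ ≫ u)).2 (by
        rintro _ ⟨o, rfl⟩
        obtain ⟨o', rfl⟩ := surjective_map_of_isLocallySurjective ((yon S).map k₀) o
        rw [← Points.map_comp, hkx, ← eγ, Points.map_comp]
        exact ⟨_, rfl⟩)
      exact ⟨γ₀, hγ₀, by rw [← cancel_mono ι, Category.assoc, hγ₀, hkx, eγ]⟩
    obtain ⟨α₀, ha, ha'⟩ := hlift x α eα
    obtain ⟨β₀, hb, hb'⟩ := hlift y β eβ
    exact .inr ⟨α₀, β₀, ha, hb, by
      rw [← cancel_epi ((yon S).map k₀), reassoc_of% ha', reassoc_of% hb', eh]⟩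

/-- The quotient by the relation. -/
theorem exists_quotient (hA : IsAlgSpace A) (hB : IsAlgSpace B) (hU : IsAlgSpace U)
    (hι : RepWith @IsOpenImmersion ι) (hh : IsEtaleMor h) (hsep : IsSeparatedMor h) :
    ∃ (W : Sp S) (q : A ⟶ W), IsAlgSpace W ∧ IsEtaleMor q ∧ Sheaf.IsLocallySurjective q ∧
      ∀ (T : Over S) (x y : (yon S).obj T ⟶ A), x ≫ q = y ≫ q ↔ Glued ι h x y := by
  haveI : Mono ι := mono_of_repWith (P := @IsOpenImmersion)
    (fun _ _ g (_ : IsOpenImmersion g) ↦ (inferInstance : Mono g)) hι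
  obtain ⟨X₀, aA, haA, haAs⟩ := hA.atlas
  haveI := isLocallySurjective_of_etale haA haAs
  obtain ⟨N, n₁, n₂, sqN⟩ := exists_isPullback_yon hA.diag aA aA
  haveI : Etale n₁.left := repWith_property haA sqN.flip
  haveI : Etale n₂.left := repWith_property haA sqN
  obtain ⟨Y₀, e, aB, sqY, heO⟩ := repWith_exists hι aA
  haveI : IsOpenImmersion e.left := heO
  have haB : RepWith @Etale aB := repWith_baseChange sqY.flip haA
  have hbh : RepWith @Etale (aB ≫ h) := hh aB haB
  obtain ⟨M, m₁, m₂, sqM⟩ := exists_isPullback_yon hU.diag (aB ≫ h) (aB ≫ h)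
  haveI : Etale m₁.left := repWith_property hbh sqM.flip
  haveI : Etale m₂.left := repWith_property hbh sqM
  let ρ : (yon S).obj M ⟶ pullback h h :=
    pullback.lift ((yon S).map m₁ ≫ aB) ((yon S).map m₂ ≫ aB) (by
      rw [Category.assoc, Category.assoc, sqM.w])
  have hd : RepWith @IsClosedImmersion (pullback.diagonal h) := hsep
  obtain ⟨-, -, -, -, -, hun⟩ :=
    Groth.Agent.S10265.result (X := ⟨B, hB⟩) (Y := ⟨U, hU⟩) (ObjectProperty.homMk h) hh
  have hdo := EtaleMono.repWith_openImmersion_diagonal hB hU hun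
  obtain ⟨D, dd, δ, sqD, hdc⟩ := repWith_exists hd ρ
  haveI : IsClosedImmersion dd.left := hdc
  haveI : IsOpenImmersion dd.left := repWith_property hdo sqD
  have hD : (yon S).map (dd ≫ m₁) ≫ aB = (yon S).map (dd ≫ m₂) ≫ aB := by
    have e1 := congr($(sqD.w) ≫ pullback.fst h h)
    have e2 := congr($(sqD.w) ≫ pullback.snd h h)
    simp only [Category.assoc, pullback.diagonal_fst, pullback.diagonal_snd, Category.comp_id, ρ,
      pullback.lift_fst, pullback.lift_snd] at e1 e2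
    rw [Functor.map_comp, Category.assoc, ← e1, e2, Functor.map_comp, Category.assoc]
  let O : M.left.Opens := ⟨(Set.range dd.left)ᶜ, dd.left.isClosedEmbedding.isClosed_range.isOpen_compl⟩
  let C : Over S := Over.mk (O.ι ≫ M.hom)
  let c : C ⟶ M := Over.homMk O.ι rfl
  haveI : IsOpenImmersion c.left := inferInstanceAs (IsOpenImmersion O.ι)
  haveI : Mono c := (Over.forget S).mono_of_mono_map (inferInstanceAs (Mono c.left))
  haveI : Mono e := (Over.forget S).mono_of_mono_map (inferInstanceAs (Mono e.left))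
  let D₂ : ULift.{u} Bool → Over S := fun i ↦ cond i.down C N
  let s₁ : ∀ i, D₂ i ⟶ X₀ := fun i ↦ match i with
    | ⟨true⟩ => c ≫ m₁ ≫ e
    | ⟨false⟩ => n₁
  let s₂ : ∀ i, D₂ i ⟶ X₀ := fun i ↦ match i with
    | ⟨true⟩ => c ≫ m₂ ≫ e
    | ⟨false⟩ => n₂
  obtain ⟨r₁, hr₁⟩ := exists_sigmaOver_desc s₁
  obtain ⟨r₂, hr₂⟩ := exists_sigmaOver_desc s₂
  -- points of a piece
  have hpiece : ∀ (i : ULift.{u} Bool) (T : Over S) (l : T ⟶ D₂ i),
      ((yon S).map (l ≫ s₁ i) ≫ aA = (yon S).map (l ≫ s₂ i) ≫ aA) ∨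
        ∃ α β : (yon S).obj T ⟶ B, α ≫ ι = (yon S).map (l ≫ s₁ i) ≫ aA ∧
          β ≫ ι = (yon S).map (l ≫ s₂ i) ≫ aA ∧ α ≫ h = β ≫ h := by
    rintro ⟨_ | _⟩ T l
    · refine .inl ?_
      simp only [s₁, s₂, Functor.map_comp, Category.assoc, sqN.w]
    · refine .inr ⟨(yon S).map (l ≫ c ≫ m₁) ≫ aB, (yon S).map (l ≫ c ≫ m₂) ≫ aB, ?_, ?_, ?_⟩
      · simp only [s₁, Functor.map_comp, Category.assoc, sqY.w]
      · simp only [s₂, Functor.map_comp, Category.assoc, sqY.w]
      · simp only [Functor.map_comp, Category.assoc, sqM.w]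
  have hcases : ∀ (T : Over S) (l : T ⟶ sigmaOver D₂) (t : ↥T.left),
      ∃ (Z : Over S) (g : Z ⟶ T) (i : ULift.{u} Bool) (k : Z ⟶ D₂ i), IsOpenImmersion g.left ∧
        (∃ z, g.left z = t) ∧ g ≫ l = k ≫ sigmaOverι D₂ i := fun T l t ↦ by
    obtain ⟨i, y, hy⟩ := (sigmaOpenCover (fun i ↦ (D₂ i).left)).exists_eq (l.left t)
    haveI : IsOpenImmersion (sigmaOverι D₂ i).left :=
      inferInstanceAs (IsOpenImmersion (Sigma.ι (fun i ↦ (D₂ i).left) i))
    have sq := (IsPullback.of_hasPullback l (sigmaOverι D₂ i)).map (Over.forget S)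
    obtain ⟨z, hz, -⟩ := Scheme.exists_preimage_of_isPullback sq t y hy.symm
    exact ⟨_, pullback.fst l (sigmaOverι D₂ i), i, pullback.snd l (sigmaOverι D₂ i),
      MorphismProperty.of_isPullback (P := @IsOpenImmersion) sq.flip
        ‹IsOpenImmersion (sigmaOverι D₂ i).left›, ⟨z, hz⟩,
      pullback.condition⟩
  -- the two pieces are separated
  have hmix : ∀ (Z : Over S) (k : Z ⟶ N) (k' : Z ⟶ C),
      k ≫ n₁ = k' ≫ c ≫ m₁ ≫ e → k ≫ n₂ = k' ≫ c ≫ m₂ ≫ e → IsEmpty ↥Z.left := by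
    intro Z k k' e₁ e₂
    have he : (yon S).map (k' ≫ c ≫ m₁) ≫ aB = (yon S).map (k' ≫ c ≫ m₂) ≫ aB := by
      have h0 : (yon S).map (k ≫ n₁) ≫ aA = (yon S).map (k ≫ n₂) ≫ aA := by
        simp only [Functor.map_comp, Category.assoc, sqN.w]
      rw [e₁, e₂] at h0
      rw [← cancel_mono ι]
      simp only [Functor.map_comp, Category.assoc, sqY.w] at h0 ⊢
      exact h0
    obtain ⟨d, hd'⟩ := (yon S).map_surjective (sqD.lift ((yon S).map (k' ≫ c ≫ m₁) ≫ aB)
      ((yon S).map (k' ≫ c)) (by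
        apply pullback.hom_ext
        · simp only [ρ, Category.assoc, pullback.diagonal_fst, Category.comp_id, pullback.lift_fst,
            Functor.map_comp]
        · simp only [ρ, Category.assoc, pullback.diagonal_snd, Category.comp_id, pullback.lift_snd]
          rw [he]
          simp only [Functor.map_comp, Category.assoc]))
    have hdd : d ≫ dd = k' ≫ c := (yon S).map_injective (by
      rw [Functor.map_comp, hd', sqD.lift_snd])
    refine ⟨fun z ↦ ?_⟩
    have hmem : O.ι (k'.left z) ∈ O := (k'.left z).2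
    refine hmem ⟨d.left z, ?_⟩
    rw [← Scheme.Hom.comp_apply, ← Over.comp_left, hdd, Over.comp_left, Scheme.Hom.comp_apply]
    rfl
  have hinj : ∀ (T : Over S) (l l' : T ⟶ sigmaOver D₂),
      l ≫ r₁ = l' ≫ r₁ → l ≫ r₂ = l' ≫ r₂ → l = l' := by
    intro T l l' e₁ e₂
    have hloc : ∀ t : ↥T.left, ∃ (Z : Over S) (g : Z ⟶ T), IsOpenImmersion g.left ∧
        (∃ z, g.left z = t) ∧ g ≫ l = g ≫ l' := fun t ↦ by
      obtain ⟨Z, g, i, k, hg, hz, ek⟩ := hcases T l t
      obtain ⟨Z', g', i', k', hg', hz', ek'⟩ := hcases T l' t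
      obtain ⟨W, a, b, eab, -, -, hag, hw⟩ := exists_refine g g' hz hz'
      refine ⟨W, a ≫ g, hag, hw, ?_⟩
      have f₁ : (a ≫ k) ≫ s₁ i = (b ≫ k') ≫ s₁ i' := by
        rw [← hr₁ i, ← hr₁ i', Category.assoc, Category.assoc, ← reassoc_of% ek,
          ← reassoc_of% ek', ← reassoc_of% eab, e₁]
      have f₂ : (a ≫ k) ≫ s₂ i = (b ≫ k') ≫ s₂ i' := by
        rw [← hr₂ i, ← hr₂ i', Category.assoc, Category.assoc, ← reassoc_of% ek,
          ← reassoc_of% ek', ← reassoc_of% eab, e₂]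
      simp only [Category.assoc]
      rw [ek, reassoc_of% eab, ek', ← Category.assoc, ← Category.assoc]
      obtain ⟨_ | _⟩ := i <;> obtain ⟨_ | _⟩ := i'
      · have ek₀ : a ≫ k = b ≫ k' := (yon S).map_injective (sqN.hom_ext
          (by rw [← Functor.map_comp, ← Functor.map_comp]; exact congrArg (yon S).map f₁)
          (by rw [← Functor.map_comp, ← Functor.map_comp]; exact congrArg (yon S).map f₂))
        rw [ek₀]
      · haveI := hmix W (a ≫ k) (b ≫ k') f₁ f₂
        exact (yon S).map_injective ((subsingleton_yon_hom_of_isEmpty _ W).elim _ _)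
      · haveI := hmix W (b ≫ k') (a ≫ k) f₁.symm f₂.symm
        exact (yon S).map_injective ((subsingleton_yon_hom_of_isEmpty _ W).elim _ _)
      · have g₁ : ((a ≫ k) ≫ c) ≫ m₁ = ((b ≫ k') ≫ c) ≫ m₁ := by
          rw [← cancel_mono e]; simpa [s₁] using f₁
        have g₂ : ((a ≫ k) ≫ c) ≫ m₂ = ((b ≫ k') ≫ c) ≫ m₂ := by
          rw [← cancel_mono e]; simpa [s₂] using f₂
        have ek₁ : a ≫ k = b ≫ k' := (cancel_mono c).1 ((yon S).map_injective (sqM.hom_ext
          (by rw [← Functor.map_comp, ← Functor.map_comp, g₁])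
          (by rw [← Functor.map_comp, ← Functor.map_comp, g₂])))
        rw [ek₁]
    choose Z g hg hz hl using hloc
    refine (yon S).map_injective (hom_ext_of_family Z g (ofArrows_mem_J _ _
      (fun t ↦ haveI := hg t; inferInstance) (fun t ↦ haveI := hg t; inferInstance)
      fun t ↦ ⟨t, hz t⟩) fun t ↦ ?_)
    rw [← Functor.map_comp, ← Functor.map_comp, hl]
  have key : ∀ (T : Over S) (a b : T ⟶ X₀), (∃ l, l ≫ r₁ = a ∧ l ≫ r₂ = b) ↔
      Glued ι h ((yon S).map a ≫ aA) ((yon S).map b ≫ aA) := by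
    intro T a b
    constructor
    · rintro ⟨l, rfl, rfl⟩ t
      obtain ⟨Z, g, i, k, hg, hz, ek⟩ := hcases T l t
      refine ⟨Z, g, hg, hz, ?_⟩
      simp only [← Functor.map_comp_assoc, reassoc_of% ek, hr₁, hr₂]
      exact hpiece i Z k
    · intro w
      have hloc : ∀ t : ↥T.left, ∃ (Z : Over S) (g : Z ⟶ T) (l : Z ⟶ sigmaOver D₂),
          IsOpenImmersion g.left ∧ (∃ z, g.left z = t) ∧ l ≫ r₁ = g ≫ a ∧ l ≫ r₂ = g ≫ b := by
        intro t
        obtain ⟨Z, g, hg, ⟨z, hz⟩, d⟩ := w t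
        have hN : ∀ {Z' : Over S} (g' : Z' ⟶ T),
            (yon S).map g' ≫ (yon S).map a ≫ aA = (yon S).map g' ≫ (yon S).map b ≫ aA →
            ∃ l : Z' ⟶ sigmaOver D₂, l ≫ r₁ = g' ≫ a ∧ l ≫ r₂ = g' ≫ b := fun {Z'} g' e' ↦ by
          obtain ⟨k, hk⟩ := (yon S).map_surjective
            (sqN.lift ((yon S).map (g' ≫ a)) ((yon S).map (g' ≫ b))
              (by simpa only [Functor.map_comp, Category.assoc] using e'))
          refine ⟨k ≫ sigmaOverι D₂ ⟨false⟩, ?_, ?_⟩
          · rw [Category.assoc, hr₁]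
            exact (yon S).map_injective (by rw [Functor.map_comp, hk]; exact sqN.lift_fst _ _ _)
          · rw [Category.assoc, hr₂]
            exact (yon S).map_injective (by rw [Functor.map_comp, hk]; exact sqN.lift_snd _ _ _)
        rcases d with d | ⟨α, β, eα, eβ, eh⟩
        · obtain ⟨l, hl₁, hl₂⟩ := hN g d
          exact ⟨Z, g, l, hg, ⟨z, hz⟩, hl₁, hl₂⟩
        obtain ⟨α', hα'⟩ := (yon S).map_surjective (sqY.lift α ((yon S).map (g ≫ a))
          (by rw [eα, Functor.map_comp, Category.assoc]))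
        obtain ⟨β', hβ'⟩ := (yon S).map_surjective (sqY.lift β ((yon S).map (g ≫ b))
          (by rw [eβ, Functor.map_comp, Category.assoc]))
        have hα₁ : (yon S).map α' ≫ aB = α := by rw [hα', sqY.lift_fst]
        have hβ₁ : (yon S).map β' ≫ aB = β := by rw [hβ', sqY.lift_fst]
        have hα₂ : α' ≫ e = g ≫ a :=
          (yon S).map_injective (by rw [Functor.map_comp, hα', sqY.lift_snd])
        have hβ₂ : β' ≫ e = g ≫ b :=
          (yon S).map_injective (by rw [Functor.map_comp, hβ', sqY.lift_snd])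
        obtain ⟨μ, hμ⟩ := (yon S).map_surjective (sqM.lift ((yon S).map α') ((yon S).map β')
          (by rw [reassoc_of% hα₁, reassoc_of% hβ₁, eh]))
        have hμ₁ : μ ≫ m₁ = α' := (yon S).map_injective (by rw [Functor.map_comp, hμ, sqM.lift_fst])
        have hμ₂ : μ ≫ m₂ = β' := (yon S).map_injective (by rw [Functor.map_comp, hμ, sqM.lift_snd])
        by_cases hzD : μ.left z ∈ Set.range dd.left
        · obtain ⟨v, hv⟩ := hzD
          have sq := (IsPullback.of_hasPullback μ dd).map (Over.forget S)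
          obtain ⟨z', hz', -⟩ := Scheme.exists_preimage_of_isPullback sq z v hv.symm
          haveI hg₁ : IsOpenImmersion (pullback.fst μ dd).left :=
            MorphismProperty.of_isPullback (P := @IsOpenImmersion) sq.flip ‹IsOpenImmersion dd.left›
          obtain ⟨l, hl₁, hl₂⟩ := hN (pullback.fst μ dd ≫ g) (by
            simp only [← Functor.map_comp_assoc, Category.assoc, ← hα₂, ← hβ₂, ← hμ₁, ← hμ₂,
              pullback.condition_assoc]
            simp only [Functor.map_comp, Category.assoc, ← sqY.w]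
            simpa only [Functor.map_comp, Category.assoc] using
              congrArg (fun w ↦ (yon S).map (pullback.snd μ dd) ≫ w ≫ ι) hD)
          refine ⟨_, pullback.fst μ dd ≫ g, l,
            inferInstanceAs (IsOpenImmersion ((pullback.fst μ dd).left ≫ g.left)), ⟨z', ?_⟩,
            hl₁, hl₂⟩
          rw [Over.comp_left, Scheme.Hom.comp_apply]
          exact (congrArg g.left hz').trans hz
        · have sq := (IsPullback.of_hasPullback μ c).map (Over.forget S)
          obtain ⟨z', hz', -⟩ := Scheme.exists_preimage_of_isPullback sq z ⟨μ.left z, hzD⟩ rfl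
          haveI hg₁ : IsOpenImmersion (pullback.fst μ c).left :=
            MorphismProperty.of_isPullback (P := @IsOpenImmersion) sq.flip ‹IsOpenImmersion c.left›
          refine ⟨_, pullback.fst μ c ≫ g, pullback.snd μ c ≫ sigmaOverι D₂ ⟨true⟩,
            inferInstanceAs (IsOpenImmersion ((pullback.fst μ c).left ≫ g.left)), ⟨z', ?_⟩, ?_, ?_⟩
          · rw [Over.comp_left, Scheme.Hom.comp_apply]
            exact (congrArg g.left hz').trans hz
          · rw [Category.assoc, hr₁]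
            show pullback.snd μ c ≫ c ≫ m₁ ≫ e = _
            rw [← pullback.condition_assoc, reassoc_of% hμ₁, hα₂, Category.assoc]
          · rw [Category.assoc, hr₂]
            show pullback.snd μ c ≫ c ≫ m₂ ≫ e = _
            rw [← pullback.condition_assoc, reassoc_of% hμ₂, hβ₂, Category.assoc]
      choose Z g l hg hz hl₁ hl₂ using hloc
      have hcov := ofArrows_mem_J Z g (fun t ↦ haveI := hg t; inferInstance)
        (fun t ↦ haveI := hg t; inferInstance) fun t ↦ ⟨t, hz t⟩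
      obtain ⟨L, hL, -⟩ := exists_desc_of_family Z g hcov (fun t ↦ (yon S).map (l t))
        fun i j W gi gj eij ↦ by
          rw [← Functor.map_comp, ← Functor.map_comp, hinj W (gi ≫ l i) (gj ≫ l j)
            (by rw [Category.assoc, Category.assoc, hl₁, hl₁, reassoc_of% eij])
            (by rw [Category.assoc, Category.assoc, hl₂, hl₂, reassoc_of% eij])]
      obtain ⟨L, rfl⟩ := (yon S).map_surjective L
      exact ⟨L,
        (yon S).map_injective (hom_ext_of_family Z g hcov fun t ↦ by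
          rw [Functor.map_comp, reassoc_of% (hL t), ← Functor.map_comp, ← Functor.map_comp, hl₁]),
        (yon S).map_injective (hom_ext_of_family Z g hcov fun t ↦ by
          rw [Functor.map_comp, reassoc_of% (hL t), ← Functor.map_comp, ← Functor.map_comp, hl₂])⟩
  have het : ∀ i, Etale (s₁ i).left ∧ Etale (s₂ i).left := by
    rintro ⟨_ | _⟩
    · exact ⟨inferInstanceAs (Etale n₁.left), inferInstanceAs (Etale n₂.left)⟩
    · exact ⟨inferInstanceAs (Etale (c.left ≫ m₁.left ≫ e.left)),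
        inferInstanceAs (Etale (c.left ≫ m₂.left ≫ e.left))⟩
  have hdesc : ∀ (s : ∀ i, D₂ i ⟶ X₀) (r : sigmaOver D₂ ⟶ X₀),
      (∀ i, sigmaOverι D₂ i ≫ r = s i) → (∀ i, Etale (s i).left) → Etale r.left := by
    intro s r hr hs
    have : r.left = Sigma.desc fun i ↦ (s i).left := Sigma.hom_ext _ _ fun i ↦
      congr($(hr i).left).trans (Sigma.ι_desc (fun i ↦ (s i).left) i).symm
    rw [this]
    exact IsZariskiLocalAtSource.sigmaDesc (P := @Etale) hs
  have hrel : AlgSp.IsEtaleEqvRel r₂ r₁ :=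
    { injective := fun T l l' h₁ h₂ ↦ hinj T l l' h₁ h₂
      equivalence := fun T ↦ by
        simp only [key]
        exact ⟨fun a ↦ glued_refl _, fun w ↦ w.symm, fun w w' ↦ w.trans w'⟩
      etale_left := hdesc s₂ r₂ hr₂ fun i ↦ (het i).2
      etale_right := hdesc s₁ r₁ hr₁ fun i ↦ (het i).1 }
  let q₀ : (yon S).obj X₀ ⟶ QuotSh.quot Scheme.fppfPrecoverage r₂ r₁ := quotMap r₂ r₁
  have hW := isAlgSpace_quot hrel
  have hpres := isPresentation_quot hrel
  have sqQ := isPullback_quot hrel.toIsEqvRel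
  haveI := isLocallySurjective_quotMap r₂ r₁
  have hN : (yon S).map n₁ ≫ q₀ = (yon S).map n₂ ≫ q₀ := by
    rw [show n₁ = sigmaOverι D₂ ⟨false⟩ ≫ r₁ from (hr₁ ⟨false⟩).symm,
      show n₂ = sigmaOverι D₂ ⟨false⟩ ≫ r₂ from (hr₂ ⟨false⟩).symm, Functor.map_comp,
      Functor.map_comp, Category.assoc, Category.assoc, quotMap_condition]
  obtain ⟨q, hq⟩ := exists_desc aA sqN q₀ hN
  refine ⟨_, q, hW, (AlgSpFormal.Charts.isEtaleMor_iff_locP hA hW q).2
    (LocP.locP_of_precomp SourceDescent.Scheme.etale hA hW haA haAs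
      (by rw [hq]; exact LocP.locP_of_repWith SourceDescent.Scheme.etale hpres.etale)), ?_,
    fun T x y ↦ ?_⟩
  · haveI : Epi q₀ := epi_quotMap r₂ r₁
    haveI : Epi (aA ≫ q) := by rw [hq]; infer_instance
    exact (Sheaf.isLocallySurjective_iff_epi' (Type (u + 1)) q).2 (epi_of_epi aA q)
  obtain ⟨T₁, p₁, a, hp₁, ha⟩ := exists_lift_of_isLocallySurjective aA x
  obtain ⟨T₂, p₂, b, hp₂, hb⟩ := exists_lift_of_isLocallySurjective aA ((yon S).map p₁ ≫ y)
  obtain ⟨a, rfl⟩ := (yon S).map_surjective a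
  obtain ⟨b, rfl⟩ := (yon S).map_surjective b
  have hp : fppfCover (p₂ ≫ p₁).left := MorphismProperty.comp_mem _ _ _ hp₂ hp₁
  haveI := epi_yon_map (p₂ ≫ p₁) hp
  have hx : (yon S).map (p₂ ≫ a) ≫ aA = (yon S).map (p₂ ≫ p₁) ≫ x := by
    simp only [Functor.map_comp, Category.assoc, ha]
  have hy : (yon S).map b ≫ aA = (yon S).map (p₂ ≫ p₁) ≫ y := by
    simp only [Functor.map_comp, Category.assoc, hb]
  constructor
  · intro e'
    refine Glued.descend hι _ hp ?_
    rw [← hx, ← hy]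
    obtain ⟨l, hl⟩ := (yon S).map_surjective (sqQ.lift ((yon S).map (p₂ ≫ a)) ((yon S).map b) (by
      show _ ≫ q₀ = _ ≫ q₀
      rw [← hq, reassoc_of% hx, reassoc_of% hy, e']))
    exact (key _ _ _).1 ⟨l, (yon S).map_injective (by rw [Functor.map_comp, hl, sqQ.lift_fst]),
      (yon S).map_injective (by rw [Functor.map_comp, hl, sqQ.lift_snd])⟩
  · intro w
    have w' := w.comp (p₂ ≫ p₁)
    rw [← hx, ← hy] at w'
    obtain ⟨l, hl₁, hl₂⟩ := (key _ _ _).2 w'
    rw [← cancel_epi ((yon S).map (p₂ ≫ p₁)), ← reassoc_of% hx, ← reassoc_of% hy, hq, ← hl₁,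
      ← hl₂, Functor.map_comp, Functor.map_comp, Category.assoc, Category.assoc]
    exact congrArg _ (quotMap_condition r₂ r₁).symm

end Groth.Agent.Lib.AlgSpEDS
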