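import Groth.Prelude.Def_AlgSpSub
import Groth.Agent.Lib.AlgSpEDS.Basic
import Groth.Agent.Lib.AlgSpEDS.Quot
import Groth.Agent.Lib.AlgSpDecent.RedInduced

/-!
# Glueing along a separated etale map on an open subspace
-/

set_option autoImplicit false
set_option linter.style.haveILetI false

universe u

open CategoryTheory CategoryTheory.Limits AlgebraicGeometry

namespace Groth.Agent.Lib.AlgSpEDS

open AlgSp (Sp yon Representable RepWith IsAlgSpace Points Space IsEtaleMor IsSeparatedMor)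
open Groth.Agent.Lib.AlgSpace Groth.Agent.Lib.AlgSpMor

variable {S : Scheme.{u}}

section Cofan

variable {I : Type u} {F : I → Sp S} {c : Cofan F} (hc : IsColimit c)

include hc

/-- Two maps to a coproduct agree on a neighbourhood with two maps to summands. -/
theorem exists_nhd {T : Over S} (x : (yon S).obj T ⟶ c.pt) (t : ↥T.left) :
    ∃ (Z : Over S) (g : Z ⟶ T) (i : I) (x' : (yon S).obj Z ⟶ F i), IsOpenImmersion g.left ∧
      (∃ z, g.left z = t) ∧ x' ≫ c.inj i = (yon S).map g ≫ x := by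
  obtain ⟨V, u, x', hu, hcov, hx, -⟩ := exists_decomposition hc x
  obtain ⟨i, z, hz⟩ := hcov t
  exact ⟨V i, u i, i, x' i, (hu i).1, ⟨z, hz⟩, hx i⟩

theorem exists_point (p : Points c.pt) : ∃ i y, Points.map (c.inj i) y = p := by
  obtain ⟨T, x, t, rfl⟩ := exists_ofPt_eq p
  obtain ⟨Z, g, i, x', -, ⟨z, rfl⟩, e⟩ := exists_nhd hc x t
  exact ⟨i, Points.ofPt x' z, by rw [Points.map_ofPt, e, ofPt_yon_map_comp]⟩

theorem index_eq {T : Over S} {i i' : I} (x : (yon S).obj T ⟶ F i) (y : (yon S).obj T ⟶ F i')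
    (e : x ≫ c.inj i = y ≫ c.inj i') (t : ↥T.left) : i = i' :=
  by_contra fun hij ↦ (isEmpty_of_inj_eq hc x y e hij).false t

end Cofan

/-- Open neighbourhoods of all points give a covering. -/
theorem hom_ext_nhd {T : Over S} {X : Sp S} {a b : (yon S).obj T ⟶ X}
    (h : ∀ t : ↥T.left, ∃ (Z : Over S) (g : Z ⟶ T), IsOpenImmersion g.left ∧
      (∃ z, g.left z = t) ∧ (yon S).map g ≫ a = (yon S).map g ≫ b) : a = b := by
  choose Z g hg hz e using h
  exact hom_ext_of_family Z g (ofArrows_mem_J _ _ (fun t ↦ haveI := hg t; inferInstance)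
    (fun t ↦ haveI := hg t; inferInstance) fun t ↦ ⟨t, hz t⟩) e

/-- Glue `U` and `V` along a separated etale map from an open of `V` to `U`. -/
theorem exists_glue {U V V' : Sp S} (hU : IsAlgSpace U) (hV : IsAlgSpace V) (hV' : IsAlgSpace V')
    {jV : V' ⟶ V} (hjV : RepWith @IsOpenImmersion jV) {f' : V' ⟶ U} (hsep : IsSeparatedMor f')
    (het : IsEtaleMor f') :
    ∃ (W : Sp S) (j : U ⟶ W) (f : V ⟶ W), IsAlgSpace W ∧ IsPullback jV f' f j ∧
      AlgSp.IsElemDistSq j f := by
  haveI : MorphismProperty.IsStableUnderComposition (@Etale : MorphismProperty Scheme.{u}) :=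
    ⟨fun f g (_ : Etale f) (_ : Etale g) ↦ inferInstanceAs (Etale (f ≫ g))⟩
  have hOE : ∀ {X Y : Sp S} {a : X ⟶ Y}, RepWith @IsOpenImmersion a → RepWith @Etale a :=
    fun ha ↦ repWith_mono ha fun _ _ g (_ : IsOpenImmersion g) ↦ (inferInstance : Etale g)
  haveI : Mono jV := mono_of_repWith (P := @IsOpenImmersion)
    (fun _ _ g (_ : IsOpenImmersion g) ↦ (inferInstance : Mono g)) hjV
  let F : ULift.{u} Bool → Sp S := fun i ↦ cond i.down V U
  let G : ULift.{u} Bool → Sp S := fun i ↦ cond i.down V' U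
  let m : ∀ i, G i ⟶ F i := fun i ↦ match i with
    | ⟨true⟩ => jV
    | ⟨false⟩ => 𝟙 U
  let k : ∀ i, G i ⟶ U := fun i ↦ match i with
    | ⟨true⟩ => f'
    | ⟨false⟩ => 𝟙 U
  have hFA : ∀ i, IsAlgSpace (F i) := by rintro ⟨_ | _⟩; exacts [hU, hV]
  have hGA : ∀ i, IsAlgSpace (G i) := by rintro ⟨_ | _⟩; exacts [hU, hV']
  have hm : ∀ i, RepWith @IsOpenImmersion (m i) := by
    rintro ⟨_ | _⟩
    · exact repWith_of_isIso _ (𝟙 U)
    · exact hjV
  have hmM : ∀ i, Mono (m i) := fun i ↦ mono_of_repWith (P := @IsOpenImmersion)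
    (fun _ _ g (_ : IsOpenImmersion g) ↦ (inferInstance : Mono g)) (hm i)
  have hk : ∀ i, IsEtaleMor (k i) := by
    rintro ⟨_ | _⟩
    · exact fun _ φ hφ ↦ (Category.comp_id φ).symm ▸ hφ
    · exact het
  have hks : ∀ i, IsSeparatedMor (k i) := by
    rintro ⟨_ | _⟩
    · exact repWith_of_isIso _ (pullback.diagonal (𝟙 U))
    · exact hsep
  let cA : Cofan F := Cofan.mk (∐ F) (Sigma.ι F)
  have hcA : IsColimit cA := coproductIsCoproduct F
  let cB : Cofan G := Cofan.mk (∐ G) (Sigma.ι G)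
  have hcB : IsColimit cB := coproductIsCoproduct G
  have hA := isAlgSpace_cofan_pt hcA hFA
  have hB := isAlgSpace_cofan_pt hcB hGA
  haveI := mono_inj hcA
  haveI := mono_inj hcB
  let ι : cB.pt ⟶ cA.pt := Cofan.IsColimit.desc hcB fun i ↦ m i ≫ cA.inj i
  let h : cB.pt ⟶ U := Cofan.IsColimit.desc hcB k
  have eι : ∀ i, cB.inj i ≫ ι = m i ≫ cA.inj i := fun i ↦ Cofan.IsColimit.fac _ _ i
  have eh : ∀ i, cB.inj i ≫ h = k i := fun i ↦ Cofan.IsColimit.fac _ _ i
  haveI : Mono ι := by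
    refine mono_of_yon ι fun T x y (e : x ≫ ι = y ≫ ι) ↦ hom_ext_nhd fun t ↦ ?_
    obtain ⟨Z, g, i, x', hg, ⟨z, hz⟩, ex⟩ := exists_nhd hcB x t
    obtain ⟨Z', g', i', y', hg', ⟨z', hz'⟩, ey⟩ := exists_nhd hcB ((yon S).map g ≫ y) z
    haveI := hg
    haveI := hg'
    have e' : ((yon S).map g' ≫ x' ≫ m i) ≫ cA.inj i = (y' ≫ m i') ≫ cA.inj i' := by
      simp only [Category.assoc, ← eι, reassoc_of% ex, reassoc_of% ey, e]
    obtain rfl := index_eq hcA _ _ e' z'
    refine ⟨Z', g' ≫ g, inferInstanceAs (IsOpenImmersion (g'.left ≫ g.left)), ⟨z', ?_⟩, ?_⟩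
    · rw [Over.comp_left, Scheme.Hom.comp_apply, hz', hz]
    · have e₁ : (yon S).map g' ≫ x' = y' := by
        haveI := hmM i
        rw [← cancel_mono (m i), ← cancel_mono (cA.inj i), Category.assoc ((yon S).map g')]
        exact e'
      rw [Functor.map_comp, Category.assoc, Category.assoc, ← ex, ← ey, ← e₁, Category.assoc]
  have hι : RepWith @IsOpenImmersion ι := by
    have hιE : RepWith @Etale ι := repWith_of_inj hcB @Etale fun i ↦ by
      rw [eι]
      exact repWith_comp (hOE (hm i)) (hOE (repWith_isOpenImmersion_inj hcA i))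
    obtain ⟨Y, b, hb, hbs⟩ := hB.atlas
    exact EtaleMono.repWith_openImmersion_of_mono hA.diag hb hbs (repWith_comp hb hιE)
  -- a chart of `B` by the summands
  choose Y a ha has using fun i ↦ (hGA i).atlas
  obtain ⟨π, hπ, -⟩ := existsUnique_sigmaOver_desc Y fun i ↦ a i ≫ cB.inj i
  have hπe : RepWith @Etale π := repWith_of_inj (isColimitSigmaOver Y) @Etale fun i ↦ by
    rw [show (Cofan.mk _ fun i ↦ (yon S).map (sigmaOverι Y i)).inj i ≫ π = a i ≫ cB.inj i from hπ i]
    exact repWith_comp (ha i) (hOE (repWith_isOpenImmersion_inj hcB i))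
  have hπs : RepWith @Surjective π := repWith_surjective_of_points hπe.rep fun p ↦ by
    obtain ⟨i, y, rfl⟩ := exists_point hcB p
    haveI := isLocallySurjective_of_etale (ha i) (has i)
    obtain ⟨y, rfl⟩ := surjective_map_of_isLocallySurjective (a i) y
    exact ⟨Points.map ((yon S).map (sigmaOverι Y i)) y, by
      rw [← Points.map_comp, hπ, ← Points.map_comp]⟩
  have hhE : IsEtaleMor h := (AlgSpFormal.Charts.isEtaleMor_iff_locP hB hU h).2
    (LocP.locP_of_precomp SourceDescent.Scheme.etale hB hU hπe hπs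
      (LocP.locP_of_repWith SourceDescent.Scheme.etale
        (repWith_of_inj (isColimitSigmaOver Y) @Etale fun i ↦ by
          rw [show (Cofan.mk _ fun i ↦ (yon S).map (sigmaOverι Y i)).inj i ≫ π ≫ h = a i ≫ k i by
            rw [← eh i, ← Category.assoc, ← Category.assoc]; exact congrArg (· ≫ h) (hπ i)]
          exact hk i (a i) (ha i))))
  have hhS : IsSeparatedMor h := by
    obtain ⟨-, -, -, -, -, hun⟩ :=
      Groth.Agent.S10265.result (X := ⟨_, hB⟩) (Y := ⟨U, hU⟩) (ObjectProperty.homMk h) hhE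
    have hdo := EtaleMono.repWith_openImmersion_diagonal hB hU hun
    refine repWith_of_exists fun T ξ ↦ ?_
    obtain ⟨D, d, δ, sq, hdO⟩ := repWith_exists hdo ξ
    haveI : IsOpenImmersion d.left := hdO
    refine ⟨D, d, δ, sq, ?_⟩
    let x := ξ ≫ pullback.fst h h
    let y := ξ ≫ pullback.snd h h
    have exy : x ≫ h = y ≫ h := by simp only [x, y, Category.assoc, pullback.condition]
    have hdiag : ∀ {Z : Over S} (γ : (yon S).obj Z ⟶ cB.pt) (u : (yon S).obj Z ⟶ (yon S).obj T),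
        γ ≫ pullback.diagonal h = u ≫ ξ ↔ γ = u ≫ x ∧ γ = u ≫ y := fun γ u ↦ by
      refine ⟨fun e ↦ ⟨?_, ?_⟩, fun e ↦ ?_⟩
      · have := congr($e ≫ pullback.fst h h)
        simpa only [Category.assoc, pullback.diagonal_fst, Category.comp_id] using this
      · have := congr($e ≫ pullback.snd h h)
        simpa only [Category.assoc, pullback.diagonal_snd, Category.comp_id] using this
      · apply pullback.hom_ext
        · simpa only [Category.assoc, pullback.diagonal_fst, Category.comp_id] using e.1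
        · simpa only [Category.assoc, pullback.diagonal_snd, Category.comp_id] using e.2
    have hδ := (hdiag δ ((yon S).map d)).1 sq.w
    refine IsClosedImmersion.of_isPreimmersion d.left ⟨isOpen_iff_forall_mem_open.2 fun t ht ↦ ?_⟩
    obtain ⟨Z, g, i, x', hg, ⟨z, hz⟩, ex⟩ := exists_nhd hcB x t
    obtain ⟨Z', g', i', y', hg', ⟨z', hz'⟩, ey⟩ := exists_nhd hcB ((yon S).map g ≫ y) z
    haveI := hg
    haveI := hg'
    let g₂ : Z' ⟶ T := g' ≫ g
    haveI : IsOpenImmersion g₂.left := inferInstanceAs (IsOpenImmersion (g'.left ≫ g.left))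
    have ex₂ : ((yon S).map g' ≫ x') ≫ cB.inj i = (yon S).map g₂ ≫ x := by
      simp only [g₂, Functor.map_comp, Category.assoc, ex]
    have ey₂ : y' ≫ cB.inj i' = (yon S).map g₂ ≫ y := by
      simp only [g₂, Functor.map_comp, Category.assoc, ey]
    have htz : g₂.left z' = t := by
      rw [Over.comp_left, Scheme.Hom.comp_apply, hz', hz]
    -- points of `g₂` over `D`
    have hpt : ∀ w : ↥Z'.left, g₂.left w ∈ Set.range d.left →
        ∃ (Q : Over S) (q : Q ⟶ Z') (v : ↥Q.left), q.left v = w ∧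
          ((yon S).map (q ≫ g') ≫ x') ≫ cB.inj i = ((yon S).map q ≫ y') ≫ cB.inj i' := by
      rintro w ⟨v, hv⟩
      obtain ⟨o, ho, -⟩ := Scheme.exists_preimage_of_isPullback
        ((IsPullback.of_hasPullback g₂ d).map (Over.forget S)) w v hv.symm
      refine ⟨_, pullback.fst g₂ d, o, ho, ?_⟩
      have e₁ : ((yon S).map (pullback.fst g₂ d ≫ g') ≫ x') ≫ cB.inj i =
          (yon S).map (pullback.snd g₂ d) ≫ δ := by
        rw [Functor.map_comp, Category.assoc, Category.assoc, ← Category.assoc ((yon S).map g'),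
          ex₂, hδ.1, ← Functor.map_comp_assoc, pullback.condition, Functor.map_comp_assoc]
      have e₂ : ((yon S).map (pullback.fst g₂ d) ≫ y') ≫ cB.inj i' =
          (yon S).map (pullback.snd g₂ d) ≫ δ := by
        rw [Category.assoc, ey₂, hδ.2, ← Functor.map_comp_assoc, pullback.condition,
          Functor.map_comp_assoc]
      rw [e₁, e₂]
    by_cases hii : i = i'
    · subst hii
      let ρ : (yon S).obj Z' ⟶ pullback (k i) (k i) := pullback.lift ((yon S).map g' ≫ x') y' (by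
        rw [← eh, ← Category.assoc _ _ h, ← Category.assoc _ _ h, ex₂, ey₂]
        simp only [x, y, Category.assoc, pullback.condition])
      obtain ⟨D', d', δ', sq', hd'⟩ := repWith_exists (hks i) ρ
      haveI : IsClosedImmersion d'.left := hd'
      have hr : IsOpen (Set.range d'.left)ᶜ := d'.left.isClosedEmbedding.isClosed_range.isOpen_compl
      refine ⟨g₂.left '' (Set.range d'.left)ᶜ, ?_, g₂.left.isOpenEmbedding.isOpenMap _ hr,
        z', ?_, htz⟩
      · rintro _ ⟨w, hw, rfl⟩ hmem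
        obtain ⟨Q, q, v, hv, e⟩ := hpt w hmem
        rw [cancel_mono] at e
        obtain ⟨l, hl⟩ := (yon S).map_surjective (sq'.lift ((yon S).map q ≫ y') ((yon S).map q) (by
          apply pullback.hom_ext
          · simp only [ρ, Category.assoc, pullback.diagonal_fst, Category.comp_id,
              pullback.lift_fst, ← e, Functor.map_comp]
          · simp only [ρ, Category.assoc, pullback.diagonal_snd, Category.comp_id,
              pullback.lift_snd]))
        have hl' : l ≫ d' = q := (yon S).map_injective (by rw [Functor.map_comp, hl, sq'.lift_snd])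
        exact hw ⟨l.left v, by rw [← Scheme.Hom.comp_apply, ← Over.comp_left, hl', hv]⟩
      · rintro ⟨v, hv⟩
        have e₁ := congr($(sq'.w) ≫ pullback.fst (k i) (k i))
        have e₂ := congr($(sq'.w) ≫ pullback.snd (k i) (k i))
        simp only [Category.assoc, pullback.diagonal_fst, pullback.diagonal_snd, Category.comp_id, ρ,
          pullback.lift_fst, pullback.lift_snd] at e₁ e₂
        obtain ⟨l, hl⟩ := (yon S).map_surjective (sq.lift (δ' ≫ cB.inj i)
          ((yon S).map (d' ≫ g₂)) ((hdiag _ _).2 ⟨by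
            rw [e₁, Category.assoc, ex₂]; simp only [g₂, Functor.map_comp, Category.assoc], by
            rw [e₂, Category.assoc, ey₂]; simp only [g₂, Functor.map_comp, Category.assoc]⟩))
        have hl' : l ≫ d = d' ≫ g₂ :=
          (yon S).map_injective (by rw [Functor.map_comp, hl, sq.lift_snd])
        refine ht ⟨l.left v, ?_⟩
        rw [← Scheme.Hom.comp_apply, ← Over.comp_left, hl', Over.comp_left,
          Scheme.Hom.comp_apply, hv, htz]
    · refine ⟨Set.range g₂.left, ?_, g₂.left.isOpenEmbedding.isOpen_range, ⟨z', htz⟩⟩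
      rintro _ ⟨w, rfl⟩ hmem
      obtain ⟨Q, q, v, -, e⟩ := hpt w hmem
      exact hii (index_eq hcB _ _ e v)
  obtain ⟨W, q, hW, hqe, hqs, hq⟩ := exists_quotient (ι := ι) (h := h) hA hB hU hι hhE hhS
  -- maps to `B` over a summand of `A`
  have hlift : ∀ {T : Over S} (i : ULift.{u} Bool) (α : (yon S).obj T ⟶ cB.pt)
      (x : (yon S).obj T ⟶ F i), α ≫ ι = x ≫ cA.inj i →
      ∃ α' : (yon S).obj T ⟶ G i, α' ≫ cB.inj i = α ∧ α' ≫ m i = x := by
    intro T i α x e
    obtain ⟨α', hα⟩ := (exists_lift_iff_range_subset (repWith_isOpenImmersion_inj hcB i) α).2 (by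
      rintro _ ⟨p, rfl⟩
      obtain ⟨T', ξ, t', rfl⟩ := exists_ofPt_eq p
      obtain ⟨Z, g, l, β, -, ⟨z, rfl⟩, eβ⟩ := exists_nhd hcB (ξ ≫ α) t'
      obtain rfl := index_eq hcA (β ≫ m l) (((yon S).map g ≫ ξ) ≫ x) (by
        rw [Category.assoc, ← eι, reassoc_of% eβ, e]
        simp only [Category.assoc]) z
      exact ⟨Points.ofPt β z, by rw [Points.map_ofPt, eβ, ofPt_yon_map_comp, Points.map_ofPt]⟩)
    exact ⟨α', hα, by rw [← cancel_mono (cA.inj i), Category.assoc, ← eι, reassoc_of% hα, e]⟩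
  let j : U ⟶ W := cA.inj ⟨false⟩ ≫ q
  let f : V ⟶ W := cA.inj ⟨true⟩ ≫ q
  have hfe : IsEtaleMor f := AlgSpTopInv.isEtaleMor_comp
    (AlgSpDecent.DescendMor.isEtaleMor_of_repWith (hOE (repWith_isOpenImmersion_inj hcA ⟨true⟩))) hqe
  have hje : IsEtaleMor j := AlgSpTopInv.isEtaleMor_comp
    (AlgSpDecent.DescendMor.isEtaleMor_of_repWith (hOE (repWith_isOpenImmersion_inj hcA ⟨false⟩))) hqe
  haveI : Mono j := mono_of_yon j fun T x y (e : x ≫ j = y ≫ j) ↦ hom_ext_nhd fun t ↦ by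
    obtain ⟨Z, g, hg, hz, d⟩ := (hq T (x ≫ cA.inj ⟨false⟩) (y ≫ cA.inj ⟨false⟩)).1
      (by simpa only [Category.assoc] using e) t
    refine ⟨Z, g, hg, hz, ?_⟩
    rcases d with d | ⟨α, β, eα, eβ, eab⟩
    · exact (cancel_mono (cA.inj ⟨false⟩)).1 (by simpa only [Category.assoc] using d)
    · obtain ⟨α', ha₁, ha₂⟩ := hlift ⟨false⟩ α ((yon S).map g ≫ x) (by rw [eα, Category.assoc])
      obtain ⟨β', hb₁, hb₂⟩ := hlift ⟨false⟩ β ((yon S).map g ≫ y) (by rw [eβ, Category.assoc])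
      rw [← ha₁, ← hb₁, Category.assoc, Category.assoc, eh] at eab
      rw [← ha₂, ← hb₂]
      exact eab
  have hjO : RepWith @IsOpenImmersion j := by
    obtain ⟨U₀, aU, haU, haUs⟩ := hU.atlas
    exact EtaleMono.repWith_openImmersion_of_mono hW.diag haU haUs (hje aU haU)
  -- pairs of points of `V` and `U` with the same image
  have hmixed : ∀ {T : Over S} (x : (yon S).obj T ⟶ V) (y : (yon S).obj T ⟶ U), x ≫ f = y ≫ j →
      ∀ t : ↥T.left, ∃ (Z : Over S) (g : Z ⟶ T) (α : (yon S).obj Z ⟶ V'), IsOpenImmersion g.left ∧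
        (∃ z, g.left z = t) ∧ α ≫ jV = (yon S).map g ≫ x ∧ α ≫ f' = (yon S).map g ≫ y := by
    intro T x y e t
    obtain ⟨Z, g, hg, ⟨z, hz⟩, d⟩ := (hq T (x ≫ cA.inj ⟨true⟩) (y ≫ cA.inj ⟨false⟩)).1
      (by simpa only [Category.assoc] using e) t
    rcases d with d | ⟨α, β, eα, eβ, eab⟩
    · have := index_eq hcA (i := ⟨true⟩) (i' := ⟨false⟩) ((yon S).map g ≫ x) ((yon S).map g ≫ y)
        (by simpa only [Category.assoc] using d) z
      exact absurd (congrArg ULift.down this) Bool.noConfusion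
    · obtain ⟨α', ha₁, ha₂⟩ := hlift ⟨true⟩ α ((yon S).map g ≫ x) (by rw [eα, Category.assoc])
      obtain ⟨β', hb₁, hb₂⟩ := hlift ⟨false⟩ β ((yon S).map g ≫ y) (by rw [eβ, Category.assoc])
      rw [← ha₁, ← hb₁, Category.assoc, Category.assoc, eh, eh] at eab
      exact ⟨Z, g, α', hg, ⟨z, hz⟩, ha₂, eab.trans hb₂⟩
  have hw : jV ≫ f = f' ≫ j := by
    refine hom_ext fun T a ↦ ?_
    have := (hq T ((a ≫ jV) ≫ cA.inj ⟨true⟩) ((a ≫ f') ≫ cA.inj ⟨false⟩)).2 fun t ↦
      ⟨T, 𝟙 T, inferInstanceAs (IsOpenImmersion (𝟙 T.left)), ⟨t, rfl⟩, .inr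
        ⟨a ≫ cB.inj ⟨true⟩, (a ≫ f') ≫ cB.inj ⟨false⟩, ?_, ?_, ?_⟩⟩
    · simpa only [Category.assoc] using this
    · rw [Category.assoc, eι, CategoryTheory.Functor.map_id, Category.id_comp, Category.assoc]
    · rw [Category.assoc, eι, CategoryTheory.Functor.map_id, Category.id_comp]
      exact congrArg ((a ≫ f') ≫ ·) (Category.id_comp _)
    · rw [Category.assoc, Category.assoc, eh, eh]
      exact (congrArg (a ≫ ·) (Category.comp_id f').symm).trans (Category.assoc _ _ _).symm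
  have sqP : IsPullback jV f' f j := by
    refine isPullback_of_yon hw (fun T c c' e _ ↦ (cancel_mono jV).1 e) fun T x y e ↦ ?_
    obtain ⟨x', hx'⟩ := (exists_lift_iff_range_subset hjV x).2 (by
      rintro _ ⟨p, rfl⟩
      obtain ⟨T', ξ, t', rfl⟩ := exists_ofPt_eq p
      obtain ⟨Z, g, α, -, ⟨z, rfl⟩, hα, -⟩ := hmixed (ξ ≫ x) (ξ ≫ y)
        (by rw [Category.assoc, e, Category.assoc]) t'
      exact ⟨Points.ofPt α z, by rw [Points.map_ofPt, hα, ofPt_yon_map_comp, Points.map_ofPt]⟩)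
    refine ⟨x', hx', hom_ext_nhd fun t ↦ ?_⟩
    obtain ⟨Z, g, α, hg, hz, hα, hα'⟩ := hmixed x y e t
    refine ⟨Z, g, hg, hz, ?_⟩
    rw [← hα', ← Category.assoc]
    congr 1
    rw [← cancel_mono jV, Category.assoc, hx', hα]
  refine ⟨W, j, f, hW, sqP, hjO, hfe, ?_⟩
  obtain ⟨T₀, i₀, hT₀, hi₀⟩ := AlgSpDecent.RedInduced.exists_redInduced hW
    (T := (Set.range (Points.map j))ᶜ) (isOpenEmbedding_map hjO).isOpen_range.isClosed_compl
  have sq := IsPullback.of_hasPullback i₀ f
  have hPA := isAlgSpace_of_isPullback sq hW.diag hT₀ hV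
  have hpe : IsEtaleMor (pullback.fst i₀ f) :=
    AlgSpTopInv.isEtaleMor_of_isPullback hV hW hT₀ sq.flip hfe
  haveI : Mono (pullback.fst i₀ f) := by
    refine mono_of_yon _ fun T a b (e : a ≫ pullback.fst i₀ f = b ≫ pullback.fst i₀ f) ↦ ?_
    refine pullback.hom_ext e (hom_ext_nhd fun t ↦ ?_)
    obtain ⟨Z, g, hg, ⟨z, hz⟩, d⟩ := (hq T ((a ≫ pullback.snd i₀ f) ≫ cA.inj ⟨true⟩)
      ((b ≫ pullback.snd i₀ f) ≫ cA.inj ⟨true⟩)).1 (by
        show _ = _
        simp only [Category.assoc]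
        show a ≫ pullback.snd i₀ f ≫ f = b ≫ pullback.snd i₀ f ≫ f
        rw [← pullback.condition, reassoc_of% e]) t
    refine ⟨Z, g, hg, ⟨z, hz⟩, ?_⟩
    rcases d with d | ⟨α, β, eα, -, -⟩
    · exact (cancel_mono (cA.inj ⟨true⟩)).1 (by simpa only [Category.assoc] using d)
    · obtain ⟨α', -, ha₂⟩ := hlift ⟨true⟩ α ((yon S).map g ≫ a ≫ pullback.snd i₀ f)
        (by rw [eα]; simp only [Category.assoc])
      exfalso
      have h1 : Points.map i₀ (Points.ofPt ((yon S).map g ≫ a ≫ pullback.fst i₀ f) z) ∈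
          (Set.range (Points.map j))ᶜ := by
        rw [← hi₀.2.1]; exact ⟨_, rfl⟩
      refine h1 ⟨Points.ofPt (α' ≫ f') z, ?_⟩
      rw [Points.map_ofPt, Points.map_ofPt]
      congr 1
      rw [Category.assoc, ← hw, reassoc_of% ha₂]
      simp only [Category.assoc, pullback.condition]
  refine ⟨T₀, pullback i₀ f, i₀, pullback.fst i₀ f, pullback.snd i₀ f, hi₀, sq, ?_⟩
  obtain ⟨P₀, aP, haP, haPs⟩ := hPA.atlas
  refine AlgSpDecent.OpenScheme.isIso_of_surjective
    (EtaleMono.repWith_openImmersion_of_mono hT₀.diag haP haPs (hpe aP haP)) fun t ↦ ?_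
  obtain ⟨p, hp⟩ := surjective_map_of_isLocallySurjective q (Points.map i₀ t)
  obtain ⟨⟨_ | _⟩, y, rfl⟩ := exists_point hcA p
  · have h1 : Points.map i₀ t ∈ (Set.range (Points.map j))ᶜ := by
      rw [← hi₀.2.1]; exact ⟨t, rfl⟩
    exact absurd ⟨y, by rw [Points.map_comp]; exact hp⟩ h1
  · obtain ⟨w, hw', -⟩ := exists_of_isPullback sq t y (by rw [Points.map_comp]; exact hp.symm)
    exact ⟨w, hw'⟩

end Groth.Agent.Lib.AlgSpEDS
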